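import Mathlib

/-!
Odd-order linear groups and bases: vocabulary, restriction to invariant summands, double counting.
-/

set_option autoImplicit false

universe u

namespace CfsgLib.OddBase

/-- Additive automorphisms as units of the endomorphism ring. -/
abbrev Aut (V : Type u) [AddCommGroup V] : Type u := (AddMonoid.End V)ˣ

variable {V : Type u} [AddCommGroup V]

instance finite_end [Finite V] : Finite (AddMonoid.End V) :=
  Finite.of_injective (fun f : AddMonoid.End V => (f : V → V)) DFunLike.coe_injective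

/-- An additive subgroup stable under a set of automorphisms. -/
def Inv (A : Subgroup (Aut V)) (U : AddSubgroup V) : Prop := ∀ a ∈ A, ∀ v ∈ U, a • v ∈ U

/-- Complete reducibility. -/
def CR (A : Subgroup (Aut V)) : Prop :=
  ∀ U : AddSubgroup V, Inv A U → ∃ W : AddSubgroup V, Inv A W ∧ U ⊓ W = ⊥ ∧ U ⊔ W = ⊤

/-- Irreducibility. -/
def Irr (A : Subgroup (Aut V)) : Prop := ∀ U : AddSubgroup V, Inv A U → U = ⊥ ∨ U = ⊤

/-- Two vectors with trivial common stabiliser. -/
def HasPair (A : Subgroup (Aut V)) : Prop :=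
  ∃ v w : V, ∀ a ∈ A, a • v = v → a • w = w → a = 1

lemma CR.of_irr {A : Subgroup (Aut V)} (h : Irr A) : CR A := by
  intro U hU
  rcases h U hU with rfl | rfl
  · exact ⟨⊤, fun _ _ v _ => AddSubgroup.mem_top _, bot_inf_eq _, sup_top_eq _⟩
  · exact ⟨⊥, fun a _ v hv => by simp [AddSubgroup.mem_bot.mp hv], inf_bot_eq _, top_sup_eq _⟩

lemma smul_neg' (a : Aut V) (v : V) : a • (-v) = -(a • v) := smul_neg a v

/-- Restriction to an invariant subgroup. -/
def res (A : Subgroup (Aut V)) (U : AddSubgroup V) (h : Inv A U) : A →* Aut U :=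
  MonoidHom.toHomUnits
    { toFun := fun a =>
        { toFun := fun v => ⟨(a : Aut V) • (v : V), h a a.2 v v.2⟩
          map_zero' := Subtype.ext (smul_zero (a : Aut V))
          map_add' := fun v w => Subtype.ext (smul_add (a : Aut V) (v : V) (w : V)) }
      map_one' := by ext v; exact one_smul (Aut V) (v : V)
      map_mul' := fun a b => by ext v; exact mul_smul (a : Aut V) (b : Aut V) (v : V) }

@[simp] lemma res_smul {A : Subgroup (Aut V)} {U : AddSubgroup V} (h : Inv A U) (a : A) (v : U) :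
    ((res A U h a • v : U) : V) = (a : Aut V) • (v : V) := rfl

lemma aut_ext {a b : Aut V} (h : ∀ v : V, a • v = b • v) : a = b :=
  Units.ext (AddMonoidHom.ext h)

lemma res_eq_one_iff {A : Subgroup (Aut V)} {U : AddSubgroup V} (h : Inv A U) (a : A) :
    res A U h a = 1 ↔ ∀ v ∈ U, (a : Aut V) • v = v := by
  constructor
  · intro he v hv
    have := res_smul h a ⟨v, hv⟩
    rw [he, one_smul] at this
    exact this.symm
  · intro he
    refine aut_ext fun v => Subtype.ext ?_
    rw [res_smul, one_smul, he v v.2]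

lemma solvable_range {G H : Type*} [Group G] [Group H] (f : G →* H) (hG : Group.IsSolvable G) :
    Group.IsSolvable f.range := by
  haveI := hG
  exact Group.isSolvable_of_surjective f.rangeRestrict_surjective

lemma odd_range {G H : Type*} [Group G] [Group H] (f : G →* H) (hG : Odd (Nat.card G)) :
    Odd (Nat.card f.range) :=
  hG.of_dvd_nat (Subgroup.card_range_dvd f)

lemma CR.res {A : Subgroup (Aut V)} (hA : CR A) {U : AddSubgroup V} (h : Inv A U) :
    CR (res A U h).range := by
  intro X hX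
  have hX' : Inv A (X.map U.subtype) := by
    rintro a ha _ ⟨x, hx, rfl⟩
    exact ⟨OddBase.res A U h ⟨a, ha⟩ • x, hX _ ⟨⟨a, ha⟩, rfl⟩ x hx, rfl⟩
  obtain ⟨Y, hY, hd, hs⟩ := hA _ hX'
  refine ⟨Y.addSubgroupOf U, ?_, ?_, ?_⟩
  · rintro _ ⟨a, rfl⟩ y hy
    show ((OddBase.res A U h a • y : U) : V) ∈ Y
    rw [res_smul]
    exact hY a a.2 _ hy
  · rw [eq_bot_iff]
    rintro x ⟨hx1, hx2⟩
    have h1 : (x : V) ∈ X.map U.subtype ⊓ Y := ⟨⟨x, hx1, rfl⟩, hx2⟩
    rw [hd, AddSubgroup.mem_bot] at h1
    rw [AddSubgroup.mem_bot]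
    exact Subtype.ext h1
  · rw [eq_top_iff]
    intro z _
    have h1 : (z : V) ∈ X.map U.subtype ⊔ Y := by rw [hs]; exact AddSubgroup.mem_top _
    obtain ⟨_, ⟨x, hx, rfl⟩, y, hy, hxy⟩ := AddSubgroup.mem_sup.mp h1
    have hyU : y ∈ U := by
      have h2 : y = (z : V) - (x : V) := by rw [← hxy]; simp
      rw [h2]; exact U.sub_mem z.2 x.2
    exact AddSubgroup.mem_sup.mpr ⟨x, hx, ⟨y, hyU⟩, hy, Subtype.ext hxy⟩

/-- An element acting trivially on two spanning invariant subgroups is trivial. -/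
lemma eq_one_of_res {A : Subgroup (Aut V)} {U W : AddSubgroup V} (hU : Inv A U) (hW : Inv A W)
    (hs : U ⊔ W = ⊤) (a : A) (h1 : res A U hU a = 1) (h2 : res A W hW a = 1) : a = 1 := by
  refine Subtype.ext (aut_ext fun v => ?_)
  obtain ⟨x, hx, y, hy, rfl⟩ := AddSubgroup.mem_sup.mp (show v ∈ U ⊔ W by rw [hs]; trivial)
  rw [smul_add, (res_eq_one_iff hU a).mp h1 x hx, (res_eq_one_iff hW a).mp h2 y hy]
  simp

lemma hasPair_sum {A : Subgroup (Aut V)} {U W : AddSubgroup V} (hU : Inv A U) (hW : Inv A W)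
    (hd : U ⊓ W = ⊥) (hs : U ⊔ W = ⊤) (h1 : HasPair (res A U hU).range)
    (h2 : HasPair (res A W hW).range) : HasPair A := by
  obtain ⟨v1, w1, k1⟩ := h1
  obtain ⟨v2, w2, k2⟩ := h2
  refine ⟨(v1 : V) + v2, (w1 : V) + w2, fun a ha hv hw => ?_⟩
  have split : ∀ (x : U) (y : W), a • ((x : V) + y) = (x : V) + y →
      res A U hU ⟨a, ha⟩ • x = x ∧ res A W hW ⟨a, ha⟩ • y = y := by
    intro x y he
    rw [smul_add] at he
    have hm : a • (x : V) - x ∈ U ⊓ W := by
      refine ⟨U.sub_mem (hU a ha x x.2) x.2, ?_⟩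
      have hr : a • (x : V) - x = (y : V) - a • (y : V) := by
        rw [sub_eq_sub_iff_add_eq_add, he, add_comm]
      rw [hr]
      exact W.sub_mem y.2 (hW a ha y y.2)
    rw [hd, AddSubgroup.mem_bot, sub_eq_zero] at hm
    refine ⟨Subtype.ext hm, Subtype.ext ?_⟩
    rw [hm] at he
    exact add_left_cancel he
  obtain ⟨a1, a2⟩ := split v1 v2 hv
  obtain ⟨b1, b2⟩ := split w1 w2 hw
  exact congrArg Subtype.val
    (eq_one_of_res hU hW hs ⟨a, ha⟩ (k1 _ ⟨_, rfl⟩ a1 b1) (k2 _ ⟨_, rfl⟩ a2 b2))

lemma card_dvd_sum [Finite V] {A : Subgroup (Aut V)} {U W : AddSubgroup V} (hU : Inv A U)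
    (hW : Inv A W) (hs : U ⊔ W = ⊤) :
    Nat.card A ≤ Nat.card (res A U hU).range * Nat.card (res A W hW).range := by
  rw [← Nat.card_prod]
  refine Nat.card_le_card_of_injective
    (fun a => ((res A U hU).rangeRestrict a, (res A W hW).rangeRestrict a)) fun a b hab => ?_
  simp only [Prod.mk.injEq] at hab
  have h1 := congrArg Subtype.val hab.1
  have h2 := congrArg Subtype.val hab.2
  simp only [MonoidHom.coe_rangeRestrict] at h1 h2
  have := eq_one_of_res hU hW hs (a⁻¹ * b) (by simp [h1]) (by simp [h2])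
  exact inv_mul_eq_one.mp this

/-- In a group of odd order an element whose square fixes a point fixes it. -/
lemma smul_eq_of_sq {G X : Type*} [Group G] [MulAction G X] (hodd : Odd (Nat.card G)) {g : G} {x : X}
    (h : g • g • x = x) : g • x = x := by
  obtain ⟨k, hk⟩ := hodd
  have hg : g ^ (2 * k + 1) = 1 := by rw [← hk]; exact pow_card_eq_one'
  have h2 : ∀ j : ℕ, g ^ (2 * j) • x = x := by
    intro j
    induction j with
    | zero => simp
    | succ j ih => rw [show 2 * (j + 1) = 2 * j + 1 + 1 by ring, pow_succ, pow_succ, mul_smul,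
        mul_smul, h, ih]
  have := h2 k
  calc g • x = g • (g ^ (2 * k) • x) := by rw [this]
    _ = g ^ (2 * k + 1) • x := by rw [← mul_smul, ← pow_succ']
    _ = x := by rw [hg, one_smul]

lemma eq_one_of_inv_eq {G : Type*} [Group G] (hodd : Odd (Nat.card G)) {g : G} (h : g⁻¹ = g) :
    g = 1 := by
  have h2 : g • g • (1 : G) = 1 := by
    simp only [smul_eq_mul, mul_one]
    nth_rewrite 1 [← h]
    simp
  simpa using smul_eq_of_sq hodd h2

open scoped Classical in
/-- Double counting: if the fixed sets of non-identity elements are small, some point is free. -/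
lemma exists_free {G X : Type*} [Group G] [Fintype G] [DecidableEq G] [Fintype X] [MulAction G X]
    (hodd : Odd (Nat.card G))
    (h : ∑ g ∈ Finset.univ.erase (1 : G), Nat.card {x : X // g • x = x} < 2 * Nat.card X) :
    ∃ x : X, ∀ g : G, g • x = x → g = 1 := by
  by_contra hcon
  push Not at hcon
  have hge : ∀ x : X, 2 ≤ ((Finset.univ.erase (1 : G)).filter fun g => g • x = x).card := by
    intro x
    obtain ⟨g, hg, hg1⟩ := hcon x
    refine Finset.one_lt_card.mpr ⟨g, ?_, g⁻¹, ?_, fun e => hg1 (eq_one_of_inv_eq hodd e.symm)⟩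
    · simp [hg, hg1]
    · simp [hg1, inv_smul_eq_iff, hg]
  have h1 : ∑ g ∈ Finset.univ.erase (1 : G), Nat.card {x : X // g • x = x} =
      ∑ x : X, ((Finset.univ.erase (1 : G)).filter fun g => g • x = x).card := by
    simp only [Nat.card_eq_fintype_card, Fintype.card_subtype, Finset.card_filter]
    exact Finset.sum_comm
  have h2 : 2 * Nat.card X ≤ ∑ x : X, ((Finset.univ.erase (1 : G)).filter fun g => g • x = x).card := by
    calc 2 * Nat.card X = ∑ _x : X, 2 := by simp [Nat.card_eq_fintype_card, mul_comm]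
      _ ≤ _ := Finset.sum_le_sum fun x _ => hge x
  omega

end CfsgLib.OddBase
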