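import Cfsg.Agent.OddBase.Colour

/-!
Gluck's theorem for soluble permutation groups of odd order: some subset has trivial setwise
stabiliser, given pairs for linear groups on modules no larger than the degree.
-/

set_option autoImplicit false
set_option linter.style.haveILetI false

universe u

namespace CfsgLib.OddBase

open Equiv
open scoped Pointwise

variable {Ω : Type u}

lemma subgroup_solvable_map {G H : Type*} [Group G] [Group H] (f : G →* H) (T : Subgroup G)
    (hT : Group.IsSolvable T) : Group.IsSolvable (T.map f) := by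
  haveI := hT
  exact Group.isSolvable_of_surjective (f.subgroupMap_surjective T)

lemma col_imprimitive [Finite Ω] (S : Subgroup (Perm Ω)) (hsol : Group.IsSolvable S)
    (hodd : Odd (Nat.card S)) [MulAction.IsPretransitive S Ω] {B : Set Ω}
    (hB : MulAction.IsBlock S B) (hns : ¬ B.Subsingleton) (huniv : B ≠ Set.univ)
    (ih : ∀ (Ω' : Type u) [Finite Ω'], Nat.card Ω' < Nat.card Ω → ∀ S' : Subgroup (Perm Ω'),
      Group.IsSolvable S' → Odd (Nat.card S') → Col S') : Col S := by
  classical
  obtain ⟨b0, hb0, b1, hb1, hb01⟩ := Set.not_subsingleton_iff.mp hns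
  let Q : Type u := MulAction.orbit S B
  have hex : ∀ x : Ω, ∃ j : Q, x ∈ (j : Set Ω) := by
    intro x
    obtain ⟨g, hg⟩ := MulAction.exists_smul_eq S b0 x
    exact ⟨⟨g • B, g, rfl⟩, Set.mem_smul_set.mpr ⟨b0, hb0, hg⟩⟩
  have huniq : ∀ (x : Ω) (j k : Q), x ∈ (j : Set Ω) → x ∈ (k : Set Ω) → j = k := by
    rintro x ⟨_, g, rfl⟩ ⟨_, g', rfl⟩ hj hk
    by_contra hne
    exact Set.disjoint_left.mp (hB fun e => hne (Subtype.ext e)) hj hk
  choose π hπmem using hex
  let φ : S →* Perm Q := MulAction.toPermHom S Q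
  have hπ : ∀ (g : S) x, π ((g : Perm Ω) x) = φ g (π x) := fun g x =>
    huniq _ _ _ (hπmem _) (Set.mem_smul_set.mpr ⟨x, hπmem x, rfl⟩)
  let j0 : Q := ⟨B, MulAction.mem_orbit_self B⟩
  have hsec' : ∀ j : Q, ∃ g : S, φ g j0 = j := fun j => by
    obtain ⟨g, hg⟩ := j.2
    exact ⟨g, Subtype.ext hg⟩
  choose sec hsec using hsec'
  have hfib : ∀ x, π x = j0 ↔ x ∈ B := fun x =>
    ⟨fun h => by have := hπmem x; rw [h] at this; exact this, fun h => huniq x _ j0 (hπmem x) h⟩
  have hQlt : Nat.card Q < Nat.card Ω := by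
    have : Fintype Ω := Fintype.ofFinite Ω
    have : Fintype Q := Fintype.ofFinite Q
    rw [Nat.card_eq_fintype_card, Nat.card_eq_fintype_card]
    refine Fintype.card_lt_of_surjective_not_injective π (fun j => ⟨(sec j : Perm Ω) b0, ?_⟩) fun h => ?_
    · rw [hπ, (hfib b0).mpr hb0, hsec]
    · exact hb01 (h (((hfib b0).mpr hb0).trans ((hfib b1).mpr hb1).symm))
  let T : Subgroup (Perm Ω) := (MulAction.stabilizer S j0).map S.subtype
  have hT : ∀ t ∈ T, ∀ x, (π (t x) = j0) ↔ π x = j0 := by
    rintro _ ⟨t, ht, rfl⟩ x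
    rw [Subgroup.coe_subtype, hπ]
    have h0 : φ t j0 = j0 := ht
    exact ⟨fun h => (φ t).injective (h.trans h0.symm), fun h => by rw [h, h0]⟩
  have hBlt : Nat.card {x // π x = j0} < Nat.card Ω := by
    have : Fintype Ω := Fintype.ofFinite Ω
    rw [Nat.card_eq_fintype_card, Nat.card_eq_fintype_card]
    obtain ⟨z, hz⟩ := (Set.ne_univ_iff_exists_notMem B).mp huniv
    exact Fintype.card_subtype_lt (x := z) (fun h => hz ((hfib z).mp h))
  have hTsol : Group.IsSolvable T := subgroup_solvable_map _ _ (by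
    haveI := hsol
    exact Group.isSolvable_of_isSolvable_injective (MulAction.stabilizer S j0).subtype_injective)
  have hTodd : Odd (Nat.card T) :=
    hodd.of_dvd_nat (Subgroup.card_dvd_of_le (Subgroup.map_subtype_le _))
  obtain ⟨η, hη⟩ := ih _ hBlt (resPerm T (fun x => π x = j0) hT).range
    (solvable_range _ hTsol) (odd_range _ hTodd)
  refine col_blocks S hodd φ π hπ j0 sec hsec ⟨b0, (hfib b0).mpr hb0⟩
    (fun x => if hx : π x = j0 then η ⟨x, hx⟩ else false) (fun t ht hfix x hx => ?_)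
    (ih _ hQlt φ.range (solvable_range _ hsol) (odd_range _ hodd))
  have hmem : (t : Perm Ω) ∈ T := ⟨t, ht, rfl⟩
  have := hη _ ⟨⟨(t : Perm Ω), hmem⟩, rfl⟩ fun y => by
    have h1 := hfix y y.2
    simp only [y.2, (hT _ hmem y).mpr y.2, dif_pos] at h1
    exact h1
  exact congrArg Subtype.val (Perm.ext_iff.mp this ⟨x, hx⟩)

lemma exists_abelian_normal (G : Type*) [Group G] [Nontrivial G] (hsol : Group.IsSolvable G) :
    ∃ N : Subgroup G, N.Normal ∧ N ≠ ⊥ ∧ ∀ a ∈ N, ∀ b ∈ N, a * b = b * a := by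
  classical
  have hex : ∃ k, derivedSeries G k = ⊥ := hsol.solvable
  obtain ⟨k, hk⟩ : ∃ k, Nat.find hex = k + 1 := by
    refine Nat.exists_eq_succ_of_ne_zero fun h => ?_
    have := Nat.find_spec hex
    rw [h, derivedSeries_zero] at this
    exact top_ne_bot this
  refine ⟨derivedSeries G k, derivedSeries_normal G k, Nat.find_min hex (by omega), fun a ha b hb => ?_⟩
  have := Nat.find_spec hex
  rw [hk, derivedSeries_succ] at this
  exact commutatorElement_eq_one_iff_mul_comm.mp
    (Subgroup.mem_bot.mp (this ▸ Subgroup.commutator_mem_commutator ha hb))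

lemma small_cases {n : ℕ} (hpp : IsPrimePow n) (hodd : Odd n) (hnp : ¬ n.Prime) (hlt : n < 49) :
    n = 9 ∨ n = 25 ∨ n = 27 := by
  obtain ⟨p, k, hp, hk, rfl⟩ := (isPrimePow_nat_iff n).mp hpp
  have hk2 : 2 ≤ k := by
    rcases k with _ | _ | k
    · omega
    · exact absurd (by simpa using hp) hnp
    · omega
  have h2 : p ^ 2 < 49 := lt_of_le_of_lt (Nat.pow_le_pow_right hp.pos hk2) hlt
  have hp7 : p < 7 := by nlinarith
  have hk6 : k < 6 := by
    by_contra h
    have h3 : 2 ^ 6 ≤ p ^ k := (Nat.pow_le_pow_right (by norm_num) (by omega : 6 ≤ k)).trans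
      (Nat.pow_le_pow_left hp.two_le k)
    omega
  have hpo : p ≠ 2 := by
    rintro rfl
    exact Nat.not_even_iff_odd.mpr hodd (Nat.even_pow.mpr ⟨even_two, by omega⟩)
  interval_cases p <;> interval_cases k <;> norm_num at *

set_option maxHeartbeats 4000000 in
open scoped Classical in
lemma col_primitive [Finite Ω] (hs : SmallBound.{u}) (S : Subgroup (Perm Ω))
    (hsol : Group.IsSolvable S) (hodd : Odd (Nat.card S)) [Nontrivial S]
    [MulAction.IsPretransitive S Ω]
    (hprim : ∀ B : Set Ω, MulAction.IsBlock S B → B.Subsingleton ∨ B = Set.univ)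
    (hlin : LinGood.{u} (Nat.card Ω)) : Col S := by
  have : Fintype Ω := Fintype.ofFinite Ω
  obtain ⟨N, hNn, hNb, hNc⟩ := exists_abelian_normal S hsol
  have htrans : ∀ X : Subgroup S, X.Normal → X ≠ ⊥ → ∀ x y : Ω, ∃ a ∈ X, (a : Perm Ω) x = y := by
    intro X hXn hX x y
    rcases hprim _ (MulAction.IsBlock.orbit_of_normal (N := X) x) with hsub | huniv
    · exfalso
      refine hX (Subgroup.eq_bot_iff_forall _ |>.mpr fun a ha => Subtype.ext (Perm.ext fun z => ?_))
      obtain ⟨g, rfl⟩ := MulAction.exists_smul_eq S x z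
      have h1 := hsub (show ((⟨g⁻¹ * a * g, by simpa using hXn.conj_mem a ha g⁻¹⟩ : X) • x) ∈
        MulAction.orbit X x from ⟨_, rfl⟩) (MulAction.mem_orbit_self x)
      change (g⁻¹ * a * g) • x = x at h1
      show a • g • x = g • x
      rw [mul_smul, mul_smul, inv_smul_eq_iff] at h1
      exact h1
    · obtain ⟨⟨a, ha⟩, hay⟩ : y ∈ MulAction.orbit X x := by rw [huniv]; trivial
      exact ⟨a, ha, hay⟩
  obtain ⟨x0⟩ : Nonempty Ω := by
    obtain ⟨g, hg⟩ := exists_ne (1 : S)
    by_contra h
    exact hg (Subtype.ext (Perm.ext fun x => (h ⟨x⟩).elim))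
  have hreg : ∀ a ∈ N, ∀ x : Ω, (a : Perm Ω) x = x → a = 1 := by
    intro a ha x hax
    refine Subtype.ext (Perm.ext fun z => ?_)
    obtain ⟨b, hb, rfl⟩ := htrans N hNn hNb x z
    show (a : Perm Ω) ((b : Perm Ω) x) = _
    rw [← Perm.mul_apply, ← Subgroup.coe_mul, hNc a ha b hb, Subgroup.coe_mul, Perm.mul_apply, hax]
    rfl
  have hinj : ∀ x : Ω, Function.Injective fun a : N => ((a : S) : Perm Ω) x := by
    intro x a b hab
    have hab' : ((a : S) : Perm Ω) x = ((b : S) : Perm Ω) x := hab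
    have := hreg ((b : S)⁻¹ * a) (N.mul_mem (N.inv_mem b.2) a.2) x (by simp [hab'])
    exact Subtype.ext (inv_mul_eq_one.mp this).symm
  have hbij : Function.Bijective fun a : N => ((a : S) : Perm Ω) x0 :=
    ⟨hinj x0, fun y => by obtain ⟨a, ha, h⟩ := htrans N hNn hNb x0 y; exact ⟨⟨a, ha⟩, h⟩⟩
  have hcN : Nat.card N = Nat.card Ω := Nat.card_congr (Equiv.ofBijective _ hbij)
  have hNodd : Odd (Nat.card N) := hodd.of_dvd_nat (Subgroup.card_subgroup_dvd_card N)
  have hN3 : 3 ≤ Nat.card Ω := by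
    rw [← hcN]
    obtain ⟨k, hk⟩ := hNodd
    have : Nat.card N ≠ 1 := fun h => hNb (Subgroup.card_eq_one.mp h)
    omega
  -- fixed points of non-identity elements
  have hfix : ∀ g : S, g ≠ 1 → 3 * Nat.card {x : Ω // (g : Perm Ω) x = x} ≤ Nat.card Ω ∧
      ((Nat.card Ω).Prime → Nat.card {x : Ω // (g : Perm Ω) x = x} ≤ 1) := by
    intro g hg
    rcases isEmpty_or_nonempty {x : Ω // (g : Perm Ω) x = x} with he | ⟨⟨x, hx⟩⟩
    · simp [Nat.card_eq_zero.mpr (Or.inl he)]
    set C : Subgroup N := (Subgroup.centralizer {g}).subgroupOf N with hC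
    have hgood : ∀ a : N, a ∈ C ↔ (g : Perm Ω) (((a : S) : Perm Ω) x) = ((a : S) : Perm Ω) x := by
      intro a
      rw [hC, Subgroup.mem_subgroupOf, Subgroup.mem_centralizer_singleton_iff]
      constructor
      · intro h
        rw [← Perm.mul_apply, ← Subgroup.coe_mul, ← h, Subgroup.coe_mul, Perm.mul_apply, hx]
      · intro h
        have hconj : g * a * g⁻¹ ∈ N := hNn.conj_mem _ a.2 g
        have := hinj x (a₁ := ⟨g * a * g⁻¹, hconj⟩) (a₂ := a) (by
          simp only [Subgroup.coe_mul, Perm.mul_apply, Subgroup.coe_inv]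
          rw [Perm.inv_eq_iff_eq.mpr hx.symm, h])
        have h2 := congrArg (fun b : N => (b : S) * g) this
        simp only [inv_mul_cancel_right] at h2
        exact h2.symm
    have hcard : Nat.card {x : Ω // (g : Perm Ω) x = x} = Nat.card C := by
      refine (Nat.card_congr (Equiv.ofBijective
        (fun a : C => (⟨((a : N) : S).1 x, (hgood a).mp a.2⟩ : {x : Ω // (g : Perm Ω) x = x}))
        ⟨fun a b h => Subtype.ext (hinj x (congrArg Subtype.val h)), fun y => ?_⟩)).symm
      obtain ⟨a, ha, hay⟩ := htrans N hNn hNb x y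
      refine ⟨⟨⟨a, ha⟩, (hgood _).mpr ?_⟩, Subtype.ext hay⟩
      rw [hay, y.2]
    have hne : C ≠ ⊤ := by
      intro h
      refine hg (Subtype.ext (Perm.ext fun z => ?_))
      obtain ⟨a, ha, rfl⟩ := htrans N hNn hNb x z
      exact (hgood ⟨a, ha⟩).mp (by rw [h]; trivial)
    have hmul : Nat.card C * C.index = Nat.card N := C.card_mul_index
    obtain ⟨k, hk⟩ := hNodd.of_dvd_nat (Dvd.intro_left _ hmul)
    have h1 : C.index ≠ 1 := fun h => hne (Subgroup.index_eq_one.mp h)
    rw [hcard, ← hcN, ← hmul]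
    refine ⟨by rw [mul_comm]; exact Nat.mul_le_mul_left _ (by omega), fun hp => ?_⟩
    rcases Nat.prime_mul_iff.mp hp with ⟨_, h2⟩ | ⟨_, h2⟩
    · exact absurd h2 h1
    · omega
  by_cases hprime : (Nat.card Ω).Prime
  · obtain ⟨a, b, hab⟩ : ∃ a b : Ω, a ≠ b := by
      rw [Nat.card_eq_fintype_card] at hN3
      exact Fintype.exists_pair_of_one_lt_card (by omega)
    refine ⟨fun x => decide (x = a ∨ x = b), fun g hg hδ => ?_⟩
    have hsq : ∀ x, x = a ∨ x = b → g (g x) = x := by
      intro x hx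
      have ha : g a = a ∨ g a = b := by simpa using hδ a
      have hb : g b = a ∨ g b = b := by simpa using hδ b
      rcases ha with ha | ha <;> rcases hb with hb | hb
      · exact absurd (g.injective (ha.trans hb.symm)) hab
      · rcases hx with rfl | rfl <;> simp [ha, hb]
      · rcases hx with rfl | rfl <;> simp [ha, hb]
      · exact absurd (g.injective (ha.trans hb.symm)) hab
    have ha : g a = a := smul_eq_of_sq (G := S) (g := ⟨g, hg⟩) hodd (hsq a (Or.inl rfl))
    have hb : g b = b := smul_eq_of_sq (G := S) (g := ⟨g, hg⟩) hodd (hsq b (Or.inr rfl))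
    by_contra hne
    have h1 := (hfix ⟨g, hg⟩ fun h => hne (congrArg Subtype.val h)).2 hprime
    have : Subsingleton {x : Ω // g x = x} := Finite.card_le_one_iff_subsingleton.mp h1
    exact hab (congrArg Subtype.val (Subsingleton.elim (⟨a, ha⟩ : {x : Ω // g x = x}) ⟨b, hb⟩))
  -- the point stabiliser as a linear group
  letI instC : CommGroup N := { (inferInstance : Group N) with
    mul_comm := fun a b => Subtype.ext (hNc a a.2 b b.2) }
  set H := MulAction.stabilizer S x0
  let ρ0 : H →* AddMonoid.End (Additive N) :=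
    { toFun := fun h =>
        { toFun := fun a => Additive.ofMul (⟨(h : S) * (Additive.toMul a : N) * (h : S)⁻¹,
            hNn.conj_mem _ (Additive.toMul a).2 _⟩ : N)
          map_zero' := by apply Additive.toMul.injective; ext1; simp
          map_add' := fun a b => by
            apply Additive.toMul.injective; ext1; simp [mul_assoc] }
      map_one' := by
        refine AddMonoidHom.ext fun a => Additive.toMul.injective (Subtype.ext ?_)
        show ((1 : H) : S) * (Additive.toMul a : N) * ((1 : H) : S)⁻¹ = _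
        rw [OneMemClass.coe_one, inv_one, mul_one, one_mul]; rfl
      map_mul' := fun g h => by
        refine AddMonoidHom.ext fun a => Additive.toMul.injective (Subtype.ext ?_)
        show ((g * h : H) : S) * (Additive.toMul a : N) * ((g * h : H) : S)⁻¹ =
          (g : S) * ((h : S) * (Additive.toMul a : N) * (h : S)⁻¹) * (g : S)⁻¹
        rw [Subgroup.coe_mul]; group }
  let ρ := ρ0.toHomUnits
  have hρinj : Function.Injective ρ := by
    rw [injective_iff_map_eq_one]
    intro h hh
    refine Subtype.ext (Subtype.ext (Perm.ext fun z => ?_))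
    obtain ⟨a, ha, rfl⟩ := htrans N hNn hNb x0 z
    have h1 : (h : S) * a * (h : S)⁻¹ = a := by
      have := DFunLike.congr_fun (congrArg (fun u : Aut (Additive N) => (u : AddMonoid.End (Additive N))) hh)
        (Additive.ofMul ⟨a, ha⟩)
      exact congrArg (fun b : Additive N => ((Additive.toMul b : N) : S)) this
    have h0 : ((h : S) : Perm Ω) x0 = x0 := h.2
    show ((h : S) : Perm Ω) ((a : Perm Ω) x0) = (a : Perm Ω) x0
    conv_rhs => rw [← h1]
    simp only [Subgroup.coe_mul, Perm.mul_apply, Subgroup.coe_inv]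
    rw [Perm.inv_eq_iff_eq.mpr h0.symm]
  have hirr : Irr ρ.range := by
    intro U hU
    let X : Subgroup S :=
      { carrier := {a | ∃ ha : a ∈ N, Additive.ofMul (⟨a, ha⟩ : N) ∈ U}
        one_mem' := ⟨N.one_mem, U.zero_mem⟩
        mul_mem' := fun ⟨ha, h1⟩ ⟨hb, h2⟩ => ⟨N.mul_mem ha hb, U.add_mem h1 h2⟩
        inv_mem' := fun ⟨ha, h1⟩ => ⟨N.inv_mem ha, U.neg_mem h1⟩ }
    have hXn : X.Normal := by
      refine ⟨fun a ⟨ha, haU⟩ g => ?_⟩
      obtain ⟨b, hb, hbx⟩ := htrans N hNn hNb x0 ((g : Perm Ω) x0)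
      have hh : b⁻¹ * g ∈ H := by
        show ((b⁻¹ * g : S) : Perm Ω) x0 = x0
        rw [Subgroup.coe_mul, Perm.mul_apply, Subgroup.coe_inv, Perm.inv_eq_iff_eq]
        exact hbx.symm
      have h2 : Additive.ofMul (⟨(b⁻¹ * g) * a * (b⁻¹ * g)⁻¹, hNn.conj_mem _ ha _⟩ : N) ∈ U :=
        hU _ ⟨⟨_, hh⟩, rfl⟩ _ haU
      have h3 : g * a * g⁻¹ = (b⁻¹ * g) * a * (b⁻¹ * g)⁻¹ := by
        have h4 : g * a * g⁻¹ = b * ((b⁻¹ * g) * a * (b⁻¹ * g)⁻¹) * b⁻¹ := by group
        rw [h4, hNc b hb _ (hNn.conj_mem _ ha _), mul_inv_cancel_right]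
      rw [h3]
      exact ⟨_, h2⟩
    by_cases hXb : X = ⊥
    · left
      rw [eq_bot_iff]
      intro v hv
      have : ((Additive.toMul v : N) : S) ∈ X := ⟨(Additive.toMul v).2, hv⟩
      rw [hXb, Subgroup.mem_bot] at this
      rw [AddSubgroup.mem_bot]
      exact Additive.toMul.injective (Subtype.ext this)
    · right
      rw [eq_top_iff]
      intro v _
      obtain ⟨b, ⟨hb, hbU⟩, hbx⟩ := htrans X hXn hXb x0 (((Additive.toMul v : N) : S).1 x0)
      have : (⟨b, hb⟩ : N) = Additive.toMul v := hinj x0 hbx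
      rw [this] at hbU
      exact hbU
  have hHsol : Group.IsSolvable H := by haveI := hsol; exact Group.isSolvable_of_isSolvable_injective H.subtype_injective
  have hHodd : Odd (Nat.card H) := hodd.of_dvd_nat (Subgroup.card_subgroup_dvd_card H)
  have hcH : Nat.card H = Nat.card ρ.range := Nat.card_congr (MonoidHom.ofInjective hρinj).toEquiv
  have hcV : Nat.card (Additive N) = Nat.card Ω := hcN
  have hH2 : Nat.card H ≤ Nat.card Ω ^ 2 := by
    obtain ⟨v, w, hvw⟩ := hlin (Additive N) hcV ρ.range (solvable_range _ hHsol) (odd_range _ hHodd)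
      (CR.of_irr hirr)
    rw [sq, ← hcV, ← Nat.card_prod]
    refine Nat.card_le_card_of_injective (fun h => (ρ h • v, ρ h • w)) fun g h hgh => ?_
    simp only [Prod.mk.injEq] at hgh
    refine (inv_mul_eq_one.mp (hρinj ((hvw (ρ (h⁻¹ * g)) ⟨_, rfl⟩ ?_ ?_).trans (map_one ρ).symm))).symm
    · rw [map_mul, map_inv, mul_smul, hgh.1, inv_smul_smul]
    · rw [map_mul, map_inv, mul_smul, hgh.2, inv_smul_smul]
  have hcS : Nat.card S = Nat.card Ω * Nat.card H := by
    rw [← MulAction.index_stabilizer_of_transitive S x0, mul_comm]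
    exact (Subgroup.card_mul_index H).symm
  have hpp : IsPrimePow (Nat.card Ω) := by
    obtain ⟨p, hp, hpd⟩ := Nat.exists_prime_and_dvd (show Nat.card (Additive N) ≠ 1 by rw [hcV]; omega)
    haveI := Fact.mk hp
    let U : AddSubgroup (Additive N) :=
      { carrier := {v | p • v = 0}
        zero_mem' := smul_zero p
        add_mem' := fun {a b} (ha : p • a = 0) (hb : p • b = 0) => show p • (a + b) = 0 by
          rw [smul_add, ha, hb, add_zero]
        neg_mem' := fun {a} (ha : p • a = 0) => show p • (-a) = 0 by rw [smul_neg, ha, neg_zero] }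
    have hU : Inv ρ.range U := fun a _ v (hv : p • v = 0) => show p • (a • v) = 0 by
      rw [smul_comm, hv, smul_zero]
    rcases hirr U hU with hb | ht
    · obtain ⟨v, hv⟩ := exists_prime_addOrderOf_dvd_card' p hpd
      have : v ∈ U := show p • v = 0 by rw [← hv]; exact addOrderOf_nsmul_eq_zero v
      rw [hb, AddSubgroup.mem_bot] at this
      rw [this, addOrderOf_zero] at hv
      exact absurd hv.symm hp.ne_one
    · have hpg : IsPGroup p N := fun a => ⟨1, by
        have : Additive.ofMul a ∈ U := by rw [ht]; trivial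
        rw [pow_one]
        exact this⟩
      obtain ⟨k, hk⟩ := IsPGroup.iff_card.mp hpg
      rw [← hcN, hk]
      exact hp.isPrimePow.pow (by rintro rfl; rw [pow_zero] at hk; omega)
  have hlow := hs (Additive N) ρ.range (solvable_range _ hHsol) (odd_range _ hHodd) hirr
  rw [hcV, ← hcH] at hlow
  -- the count
  have : Fintype S := Fintype.ofFinite S
  letI : MulAction S (Ω → Bool) := arrowAction
  set L := (Nat.card Ω + 2 * (Nat.card Ω / 3)) / 3
  have hsum : ∑ g ∈ Finset.univ.erase (1 : S), Nat.card {δ : Ω → Bool // g • δ = δ} <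
      2 * Nat.card (Ω → Bool) := by
    refine lt_of_le_of_lt (Finset.sum_le_sum (g := fun _ => 2 ^ L) fun g hg => ?_) ?_
    · have hg1 : g ≠ 1 := Finset.ne_of_mem_erase hg
      refine le_trans (Nat.card_le_card_of_injective (fun δ => (⟨δ.1, fun x => ?_⟩ :
        {δ : Ω → Bool // ∀ x, δ ((g : Perm Ω) x) = δ x})) fun a b h =>
          Subtype.ext (congrArg (fun z : {δ : Ω → Bool // ∀ x, δ ((g : Perm Ω) x) = δ x} => z.1) h))
        (card_inv_colourings S hodd g.2 (by have := (hfix g hg1).1; omega))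
      have := congrFun δ.2 ((g : Perm Ω) x)
      change δ.1 ((g⁻¹ : S).1 ((g : Perm Ω) x)) = _ at this
      simpa using this.symm
    · rw [Finset.sum_const, smul_eq_mul, Finset.card_erase_of_mem (Finset.mem_univ _),
        Finset.card_univ, Nat.card_fun, Nat.card_eq_fintype_card (α := Bool), Fintype.card_bool,
        ← Nat.card_eq_fintype_card]
      have hS0 : 0 < Nat.card S := Nat.card_pos
      have key : Nat.card S * 2 ^ L ≤ 2 * 2 ^ Nat.card Ω := by
        rw [hcS]
        by_cases h49 : 49 ≤ Nat.card Ω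
        · calc Nat.card Ω * Nat.card H * 2 ^ L ≤ Nat.card Ω * Nat.card Ω ^ 2 * 2 ^ L := by gcongr
            _ = Nat.card Ω ^ 3 * 2 ^ L := by ring
            _ ≤ 2 ^ (4 * Nat.card Ω / 9) * 2 ^ L := Nat.mul_le_mul_right _ (pow_bound _ h49)
            _ ≤ _ := by
              rw [← pow_add, ← pow_succ']
              exact Nat.pow_le_pow_right (by norm_num) (by omega)
        · have hn := small_cases hpp (hcN ▸ hNodd) hprime (by omega)
          rcases hn with hn | hn | hn <;> simp only [L, hn]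
          · rw [hlow.1 hn]; norm_num
          · calc 25 * Nat.card H * 2 ^ ((25 + 2 * (25 / 3)) / 3) ≤ 25 * 3 * 2 ^ ((25 + 2 * (25 / 3)) / 3) := by
                  gcongr; exact hlow.2.1 hn
              _ ≤ _ := by norm_num
          · calc 27 * Nat.card H * 2 ^ ((27 + 2 * (27 / 3)) / 3) ≤ 27 * 39 * 2 ^ ((27 + 2 * (27 / 3)) / 3) := by
                  gcongr; exact hlow.2.2 hn
              _ ≤ _ := by norm_num
      have h3 : (Nat.card S - 1) * 2 ^ L < Nat.card S * 2 ^ L :=
        Nat.mul_lt_mul_of_pos_right (by omega) (by positivity)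
      omega
  obtain ⟨δ, hδ⟩ := exists_free hodd (by convert hsum using 3)
  refine ⟨δ, fun g hg h => congrArg Subtype.val (hδ ⟨g, hg⟩ (funext fun x => ?_))⟩
  show δ ((⟨g, hg⟩ : S)⁻¹.1 x) = δ x
  have := h (g⁻¹ x)
  simpa using this.symm

/-- Gluck's theorem, relative to pairs for linear groups of size at most the degree. -/
theorem col_of_linGood (hs : SmallBound.{u}) : ∀ (n : ℕ), (∀ m ≤ n, LinGood.{u} m) →
    ∀ (Ω : Type u) [Finite Ω], Nat.card Ω = n → ∀ S : Subgroup (Perm Ω), Group.IsSolvable S →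
      Odd (Nat.card S) → Col S := by
  intro n
  induction n using Nat.strong_induction_on with
  | _ n ih =>
    intro hlin Ω _ hn S hsol hodd
    have ih' : ∀ (Ω' : Type u) [Finite Ω'], Nat.card Ω' < Nat.card Ω → ∀ S' : Subgroup (Perm Ω'),
        Group.IsSolvable S' → Odd (Nat.card S') → Col S' := fun Ω' _ h S' hs' ho' =>
      ih _ (hn ▸ h) (fun m hm => hlin m (by omega)) Ω' rfl S' hs' ho'
    rcases subsingleton_or_nontrivial S with hS | hS
    · exact ⟨fun _ => true, fun g hg _ => congrArg Subtype.val (Subsingleton.elim (⟨g, hg⟩ : S) 1)⟩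
    by_cases htr : MulAction.IsPretransitive S Ω
    · by_cases hprim : ∀ B : Set Ω, MulAction.IsBlock S B → B.Subsingleton ∨ B = Set.univ
      · exact col_primitive hs S hsol hodd hprim (hlin _ hn.le)
      · push Not at hprim
        obtain ⟨B, hB, hns, huniv⟩ := hprim
        exact col_imprimitive S hsol hodd hB (Set.not_subsingleton_iff.mpr hns) huniv ih'
    · obtain ⟨x, y, hxy⟩ : ∃ x y : Ω, ∀ g : S, g • x ≠ y := by
        by_contra hcon
        push Not at hcon
        exact htr ⟨hcon⟩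
      let P : Ω → Prop := fun z => z ∈ MulAction.orbit S x
      have hP : ∀ g ∈ S, ∀ z, P (g z) ↔ P z := fun g hg z => by
        constructor <;> rintro ⟨a, ha⟩
        · exact ⟨(⟨g, hg⟩ : S)⁻¹ * a, show ((⟨g, hg⟩ : S)⁻¹ * a) • x = z by
            rw [mul_smul, show a • x = (⟨g, hg⟩ : S) • z from ha, inv_smul_smul]⟩
        · exact ⟨(⟨g, hg⟩ : S) * a, show ((⟨g, hg⟩ : S) * a) • x = g z by
            rw [mul_smul, show a • x = z from ha]; rfl⟩
      have hy : ¬ P y := fun ⟨g, hg⟩ => hxy g hg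
      have : Fintype Ω := Fintype.ofFinite Ω
      classical
      refine col_union S P hP
        (ih' _ ?_ _ (solvable_range _ hsol) (odd_range _ hodd))
        (ih' _ ?_ _ (solvable_range _ hsol) (odd_range _ hodd))
      · simp only [Nat.card_eq_fintype_card]
        exact Fintype.card_subtype_lt (x := y) hy
      · simp only [Nat.card_eq_fintype_card]
        exact Fintype.card_subtype_lt (x := x) (not_not.mpr (MulAction.mem_orbit_self x))

end CfsgLib.OddBase
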