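import Cfsg.Agent.OddBase.Blocks
import Cfsg.Agent.OddBase.Gluck

/-!
Groups with a system of blocks: pairs, and the order bound for 27 points.
-/

set_option autoImplicit false
set_option linter.style.haveILetI false
set_option linter.unusedSectionVars false

universe u

namespace CfsgLib.OddBase

variable {V : Type u} [AddCommGroup V] {A : Subgroup (Aut V)}

namespace Blocks

open scoped Classical

variable (Bk : Blocks A)

/-- The action on the blocks. -/
def perm : A →* Equiv.Perm Bk.O where
  toFun a :=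
    { toFun := fun i => ⟨cj (a : Aut V) i, Bk.conj_mem a a.2 i i.2⟩
      invFun := fun i => ⟨cj (a : Aut V)⁻¹ i, Bk.conj_mem _ (A.inv_mem a.2) i i.2⟩
      left_inv := fun i => Subtype.ext (by simp [cj_cj])
      right_inv := fun i => Subtype.ext (by simp [cj_cj]) }
  map_one' := Equiv.ext fun i => Subtype.ext (by simp)
  map_mul' a b := Equiv.ext fun i => Subtype.ext (by simp [cj_cj])

/-- A base block. -/
noncomputable def base : Bk.O :=
  ⟨(Finset.card_pos.mp (by have := Bk.two; omega) : Bk.O.Nonempty).choose,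
    (Finset.card_pos.mp (by have := Bk.two; omega) : Bk.O.Nonempty).choose_spec⟩

/-- The stabiliser of the base block. -/
noncomputable def stab : Subgroup (Aut V) where
  carrier := {a | a ∈ A ∧ cj a (Bk.base : AddMonoid.End V) = Bk.base}
  one_mem' := ⟨A.one_mem, cj_one _⟩
  mul_mem' := fun {a b} ha hb => ⟨A.mul_mem ha.1 hb.1, by rw [← cj_cj, hb.2, ha.2]⟩
  inv_mem' := fun {a} ha => ⟨A.inv_mem ha.1, by
    conv_lhs => rw [← ha.2]
    rw [cj_cj, inv_mul_cancel, cj_one]⟩

/-- The base subspace. -/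
noncomputable def space : AddSubgroup V := fixOf (Bk.base : AddMonoid.End V)

lemma inv_space : Inv Bk.stab Bk.space := fun a ha v hv => by
  rw [space, mem_fixOf] at hv ⊢
  conv_lhs => rw [← ha.2]
  rw [cj_apply_smul, hv]

/-- Representatives carrying the base block to the others. -/
noncomputable def rep (i : Bk.O) : Aut V := (Bk.trans Bk.base Bk.base.2 i i.2).choose

lemma rep_mem (i : Bk.O) : Bk.rep i ∈ A := (Bk.trans Bk.base Bk.base.2 i i.2).choose_spec.1

lemma cj_rep (i : Bk.O) : cj (Bk.rep i) (Bk.base : AddMonoid.End V) = i :=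
  (Bk.trans Bk.base Bk.base.2 i i.2).choose_spec.2

lemma idem_mem (i : Bk.O) (v : V) : (i : AddMonoid.End V) v ∈ fixOf (i : AddMonoid.End V) :=
  DFunLike.congr_fun (Bk.idem i i.2) v

lemma rep_inv_smul (i : Bk.O) (v : V) :
    (Bk.rep i)⁻¹ • (i : AddMonoid.End V) v ∈ Bk.space := by
  rw [space, mem_fixOf]
  have h := cj_apply_smul (Bk.rep i) (Bk.base : AddMonoid.End V)
    ((Bk.rep i)⁻¹ • (i : AddMonoid.End V) v)
  rw [cj_rep, smul_inv_smul, mem_fixOf.mp (Bk.idem_mem i v)] at h
  exact smul_left_cancel (Bk.rep i) (by rw [← h, smul_inv_smul])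

lemma proj_rep (i k : Bk.O) {y : V} (hy : y ∈ Bk.space) :
    (i : AddMonoid.End V) (Bk.rep k • y) = if i = k then Bk.rep k • y else 0 := by
  classical
  have h0 : (k : AddMonoid.End V) (Bk.rep k • y) = Bk.rep k • y := by
    conv_lhs => rw [← Bk.cj_rep k]
    rw [cj_apply_smul, mem_fixOf.mp hy]
  split_ifs with h
  · rw [h, h0]
  · rw [← h0]
    exact DFunLike.congr_fun (Bk.orth i i.2 k k.2 fun e => h (Subtype.ext e)) _

lemma sum_proj (v : V) : ∑ i : Bk.O, (i : AddMonoid.End V) v = v := by
  have h1 : ∑ i : Bk.O, (i : AddMonoid.End V) v = ∑ i ∈ Bk.O, i v :=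
    Finset.sum_coe_sort Bk.O (fun i => i v)
  have h2 : ∀ s : Finset (AddMonoid.End V), ∑ i ∈ s, i v = (∑ i ∈ s, i) v := by
    intro s
    induction s using Finset.induction_on with
    | empty => rfl
    | insert a s ha ih => rw [Finset.sum_insert ha, Finset.sum_insert ha, ih]; rfl
  rw [h1, h2]
  exact DFunLike.congr_fun Bk.sum_eq v

lemma key_stab (a : A) (i : Bk.O) :
    (Bk.rep (Bk.perm a i))⁻¹ * a * Bk.rep i ∈ Bk.stab := by
  refine ⟨A.mul_mem (A.mul_mem (A.inv_mem (Bk.rep_mem _)) a.2) (Bk.rep_mem i), ?_⟩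
  rw [← cj_cj, ← cj_cj, cj_rep]
  have h : cj (a : Aut V) (i : AddMonoid.End V) = (Bk.perm a i : AddMonoid.End V) := rfl
  rw [h]
  conv_lhs => rw [← Bk.cj_rep (Bk.perm a i), cj_cj, inv_mul_cancel, cj_one]

lemma faith (a : A) (h1 : Bk.perm a = 1)
    (h2 : ∀ i : Bk.O, ∀ y ∈ Bk.space, ((Bk.rep i)⁻¹ * (a : Aut V) * Bk.rep i) • y = y) : a = 1 := by
  refine Subtype.ext (aut_ext fun v => ?_)
  rw [OneMemClass.coe_one, one_smul]
  conv_lhs => rw [← Bk.sum_proj v, Finset.smul_sum]
  conv_rhs => rw [← Bk.sum_proj v]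
  refine Finset.sum_congr rfl fun i _ => ?_
  have h := h2 i _ (Bk.rep_inv_smul i v)
  rw [mul_smul, mul_smul, smul_inv_smul, inv_smul_eq_iff, smul_inv_smul] at h
  exact h

lemma irr_space (hirr : Irr A) : Irr (res Bk.stab Bk.space Bk.inv_space).range := by
  intro U0 hU0
  let S : Set V := {v | ∃ a ∈ A, ∃ u ∈ U0, a • (u : V) = v}
  have hinv : Inv A (AddSubgroup.closure S) := by
    intro a ha v hv
    induction hv using AddSubgroup.closure_induction with
    | mem x hx =>
      obtain ⟨b, hb, u, hu, rfl⟩ := hx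
      exact AddSubgroup.subset_closure ⟨a * b, A.mul_mem ha hb, u, hu, mul_smul a b (u : V)⟩
    | zero => rw [smul_zero]; exact AddSubgroup.zero_mem _
    | add x y _ _ hx hy => rw [smul_add]; exact AddSubgroup.add_mem _ hx hy
    | neg x _ hx => rw [smul_neg]; exact AddSubgroup.neg_mem _ hx
  rcases hirr _ hinv with hb | ht
  · left
    rw [eq_bot_iff]
    intro u hu
    have : (u : V) ∈ AddSubgroup.closure S :=
      AddSubgroup.subset_closure ⟨1, A.one_mem, u, hu, one_smul _ _⟩
    rw [hb, AddSubgroup.mem_bot] at this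
    rw [AddSubgroup.mem_bot]
    exact Subtype.ext this
  · right
    rw [eq_top_iff]
    intro w _
    have hkey : ∀ v ∈ AddSubgroup.closure S,
        (Bk.base : AddMonoid.End V) v ∈ U0.map Bk.space.subtype := by
      intro v hv
      induction hv using AddSubgroup.closure_induction with
      | mem x hx =>
        obtain ⟨b, hb, u, hu, rfl⟩ := hx
        have h0 : cj b (Bk.base : AddMonoid.End V) (b • (u : V)) = b • (u : V) := by
          rw [cj_apply_smul]
          exact congrArg (fun z => b • z) (mem_fixOf.mp u.2)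
        by_cases hbT : cj b (Bk.base : AddMonoid.End V) = Bk.base
        · rw [hbT] at h0
          rw [h0]
          exact ⟨res Bk.stab Bk.space Bk.inv_space ⟨b, hb, hbT⟩ • u, hU0 _ ⟨_, rfl⟩ u hu, rfl⟩
        · rw [← h0]
          have h1 := DFunLike.congr_fun (Bk.orth _ Bk.base.2 _ (Bk.conj_mem b hb _ Bk.base.2)
            (Ne.symm hbT)) (b • (u : V))
          change (Bk.base : AddMonoid.End V) (cj b (Bk.base : AddMonoid.End V) (b • (u : V))) = 0 at h1
          rw [h1]
          exact AddSubgroup.zero_mem _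
      | zero => rw [map_zero]; exact AddSubgroup.zero_mem _
      | add x y _ _ hx hy => rw [map_add]; exact AddSubgroup.add_mem _ hx hy
      | neg x _ hx => rw [map_neg]; exact AddSubgroup.neg_mem _ hx
    obtain ⟨u, hu, huw⟩ := hkey w (by rw [ht]; trivial)
    rw [mem_fixOf.mp w.2] at huw
    exact (Subtype.ext huw : u = w) ▸ hu

variable [Finite V]

lemma card_eq : Nat.card V = Nat.card Bk.space ^ Bk.O.card := by
  classical
  rw [← Fintype.card_coe Bk.O, ← Nat.card_eq_fintype_card, ← Nat.card_fun]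
  refine Nat.card_congr
    { toFun := fun v i => ⟨(Bk.rep i)⁻¹ • (i : AddMonoid.End V) v, Bk.rep_inv_smul i v⟩
      invFun := fun f => ∑ i : Bk.O, Bk.rep i • (f i : V)
      left_inv := fun v => by
        simp only [smul_inv_smul]
        exact Bk.sum_proj v
      right_inv := fun f => funext fun i => Subtype.ext ?_ }
  simp only
  rw [map_sum, Finset.sum_eq_single i (fun k _ hk => by rw [Bk.proj_rep i k (f k).2, if_neg (Ne.symm hk)])
    (fun h => absurd (Finset.mem_univ i) h), Bk.proj_rep i i (f i).2, if_pos rfl, inv_smul_smul]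

lemma two_le_space : 2 ≤ Nat.card Bk.space := by
  obtain ⟨v, hv⟩ : ∃ v : V, (Bk.base : AddMonoid.End V) v ≠ 0 := by
    by_contra h
    push Not at h
    exact Bk.ne_zero _ Bk.base.2 (DFunLike.ext _ _ h)
  have : Nontrivial Bk.space := ⟨⟨⟨_, Bk.idem_mem Bk.base v⟩, 0, fun e => hv (congrArg Subtype.val e)⟩⟩
  exact Finite.one_lt_card

lemma odd_O (hodd : Odd (Nat.card A)) : Odd Bk.O.card := by
  classical
  letI : MulAction A Bk.O := MulAction.compHom _ Bk.perm
  have h : MulAction.orbit A Bk.base = Set.univ := Set.eq_univ_of_forall fun i =>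
    ⟨⟨Bk.rep i, Bk.rep_mem i⟩, Subtype.ext (Bk.cj_rep i)⟩
  refine hodd.of_dvd_nat ?_
  rw [← Fintype.card_coe, ← Nat.card_eq_fintype_card, ← Nat.card_congr (Equiv.Set.univ Bk.O), ← h,
    Nat.card_congr (MulAction.orbitEquivQuotientStabilizer A Bk.base)]
  exact Subgroup.card_quotient_dvd_card _

include Bk in
/-- A group of order at most thirty-nine on twenty-seven points. -/
lemma card_twentySeven (hodd : Odd (Nat.card A)) (h27 : Nat.card V = 27) : Nat.card A ≤ 39 := by
  classical
  obtain ⟨k, hk⟩ := Bk.odd_O hodd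
  have h2 := Bk.two
  have hc := Bk.card_eq
  rw [h27] at hc
  have hO3 : Bk.O.card = 3 := by
    by_contra hne
    have : 2 ^ 5 ≤ Nat.card Bk.space ^ Bk.O.card :=
      (Nat.pow_le_pow_right (by norm_num) (by omega : 5 ≤ Bk.O.card)).trans
        (Nat.pow_le_pow_left Bk.two_le_space _)
    omega
  have hW : Nat.card Bk.space = 3 := by
    rw [hO3] at hc
    exact Nat.pow_left_injective (show (3 : ℕ) ≠ 0 by norm_num) hc.symm
  haveI : Fact (Nat.Prime 3) := ⟨Nat.prime_three⟩
  have hA1 : ∀ t ∈ Bk.stab, ∀ y ∈ Bk.space, t • y = y := by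
    intro t ht y hy
    set r := res Bk.stab Bk.space Bk.inv_space ⟨t, ht⟩ with hr
    have hrT : Odd (orderOf r) := by
      refine hodd.of_dvd_nat (((orderOf_map_dvd _ _).trans (orderOf_dvd_natCard _)).trans ?_)
      exact Subgroup.card_dvd_of_le (fun a ha => ha.1)
    by_cases hy0 : y = 0
    · rw [hy0, smul_zero]
    set Y : Bk.space := ⟨y, hy⟩
    have hY : Y ≠ 0 := fun e => hy0 (congrArg Subtype.val e)
    have hmem : ∀ z : Bk.space, z ≠ 0 → z = Y ∨ z = -Y := by
      intro z hz
      obtain ⟨n, rfl⟩ : ∃ n : ℕ, n • Y = z :=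
        mem_multiples_of_prime_card (G := Bk.space) hW hY (g' := z)
      have h3 : 3 • Y = 0 := by rw [← hW]; exact card_nsmul_eq_zero'
      obtain ⟨q, s, hs, rfl⟩ : ∃ q s, s < 3 ∧ n = q * 3 + s :=
        ⟨n / 3, n % 3, Nat.mod_lt _ (by norm_num), (Nat.div_add_mod' n 3).symm⟩
      rw [add_nsmul, mul_nsmul', h3, smul_zero, zero_add] at hz ⊢
      interval_cases s
      · exact absurd (zero_nsmul Y) hz
      · exact Or.inl (one_nsmul Y)
      · exact Or.inr (eq_neg_of_add_eq_zero_left (by rw [← succ_nsmul]; exact h3))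
    have hne : r • Y ≠ 0 := fun e => hY (MulAction.injective r (by simp only [e, smul_zero]))
    have hrY : r • Y = Y := by
      rcases hmem _ hne with h | h
      · exact h
      · exfalso
        obtain ⟨m, hm⟩ := hrT
        have h2 : ∀ j : ℕ, r ^ (2 * j) • Y = Y := by
          intro j
          induction j with
          | zero => simp
          | succ j ih =>
            rw [show 2 * (j + 1) = 2 * j + 1 + 1 by ring, pow_succ, pow_succ, mul_smul, mul_smul, h,
              smul_neg, h, neg_neg, ih]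
        have h1 : r ^ (2 * m + 1) • Y = Y := by rw [← hm, pow_orderOf_eq_one, one_smul]
        rw [pow_succ, mul_smul, h, smul_neg, h2] at h1
        have h3 : 3 • Y = 0 := by rw [← hW]; exact card_nsmul_eq_zero'
        refine hY ?_
        have h4 : Y + Y = 0 := by
          nth_rewrite 1 [← h1]
          exact neg_add_cancel Y
        have h5 : 3 • Y = Y + Y + Y := by abel
        rw [h5, h4, zero_add] at h3
        exact h3
    have := congrArg Subtype.val hrY
    rwa [hr, res_smul] at this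
  have hinj : Function.Injective Bk.perm := by
    rw [injective_iff_map_eq_one]
    intro a ha
    refine Bk.faith a ha fun i y hy => hA1 _ ?_ y hy
    have := Bk.key_stab a i
    rwa [ha] at this
  refine le_trans (Nat.card_le_card_of_injective _ hinj) ?_
  rw [Nat.card_perm, Nat.card_eq_fintype_card, Fintype.card_coe, hO3]
  decide

include Bk in
/-- Pairs for a group with blocks. -/
theorem hasPair (hs : SmallBound.{u}) (hsol : Group.IsSolvable A) (hodd : Odd (Nat.card A))
    (hirr : Irr A) (hlin : ∀ m < Nat.card V, LinGood.{u} m) : HasPair A := by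
  classical
  have hWlt : Nat.card Bk.space < Nat.card V := by
    rw [Bk.card_eq]
    calc Nat.card Bk.space = Nat.card Bk.space ^ 1 := (pow_one _).symm
      _ < _ := Nat.pow_lt_pow_right Bk.two_le_space Bk.two
  have hOlt : Nat.card Bk.O < Nat.card V := by
    rw [Nat.card_eq_fintype_card, Fintype.card_coe, Bk.card_eq]
    exact Nat.lt_pow_self Bk.two_le_space
  have hTle : Bk.stab ≤ A := fun a ha => ha.1
  haveI := hsol
  have hTsol : Group.IsSolvable Bk.stab :=
    Group.isSolvable_of_isSolvable_injective (Subgroup.inclusion_injective hTle)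
  have hTodd : Odd (Nat.card Bk.stab) := hodd.of_dvd_nat (Subgroup.card_dvd_of_le hTle)
  set R := (res Bk.stab Bk.space Bk.inv_space).range
  have hRodd : Odd (Nat.card R) := odd_range _ hTodd
  obtain ⟨v, w, hvw⟩ := hlin _ hWlt Bk.space rfl R (solvable_range _ hTsol) hRodd
    (CR.of_irr (Bk.irr_space hirr))
  obtain ⟨δ, hδ⟩ := col_of_linGood hs _ (fun m hm => hlin m (lt_of_le_of_lt hm hOlt)) Bk.O rfl
    Bk.perm.range (solvable_range _ hsol) (odd_range _ hodd)
  -- two regular pairs in different orbits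
  obtain ⟨v0, w0, v1, w1, hr0, hr1, hsep⟩ : ∃ v0 w0 v1 w1 : Bk.space,
      (∀ r ∈ R, r • v0 = v0 → r • w0 = w0 → r = 1) ∧ (∀ r ∈ R, r • v1 = v1 → r • w1 = w1 → r = 1) ∧
      ∀ r ∈ R, r • v0 = v1 → r • w0 = w1 → False := by
    by_cases hne : v = w
    · subst hne
      by_cases hv0 : v = 0
      · obtain ⟨x, hx⟩ : ∃ x : Bk.space, x ≠ 0 := by
          have : Nontrivial Bk.space := Finite.one_lt_card_iff_nontrivial.mp Bk.two_le_space
          exact exists_ne 0
        have htriv : ∀ r ∈ R, r = 1 := fun r hr =>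
          hvw r hr (by rw [hv0, smul_zero]) (by rw [hv0, smul_zero])
        exact ⟨0, 0, x, 0, fun r hr _ _ => htriv r hr, fun r hr _ _ => htriv r hr,
          fun r hr h _ => hx (by rw [← h, smul_zero])⟩
      · exact ⟨v, 0, 0, v, fun r hr h _ => hvw r hr h h, fun r hr _ h => hvw r hr h h,
          fun r _ h _ => hv0 (MulAction.injective r (by simpa using h))⟩
    · refine ⟨v, w, w, v, hvw, fun r hr h h' => hvw r hr h' h, fun r hr h h' => hne ?_⟩
      have h2 : r • r • v = v := by rw [h, h']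
      have h3 := smul_eq_of_sq (G := R) (X := Bk.space) hRodd (g := ⟨r, hr⟩) (x := v) h2
      exact h3.symm.trans h
  let P : Bool → Bk.space := fun c => if c then v1 else v0
  let P' : Bool → Bk.space := fun c => if c then w1 else w0
  have hreg : ∀ c, ∀ r ∈ R, r • P c = P c → r • P' c = P' c → r = 1 := by
    intro c; cases c <;> simpa [P, P']
  have horb : ∀ c c', ∀ r ∈ R, r • P c = P c' → r • P' c = P' c' → c = c' := by
    intro c c' r hr h h'
    cases c <;> cases c' <;> simp only [P, P', if_true, if_false, Bool.false_eq_true] at h h' ⊢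
    · exact (hsep r hr h h').elim
    · exact (hsep r⁻¹ (R.inv_mem hr) (by rw [inv_smul_eq_iff, h]) (by rw [inv_smul_eq_iff, h'])).elim
  refine ⟨∑ i : Bk.O, Bk.rep i • (P (δ i) : V), ∑ i : Bk.O, Bk.rep i • (P' (δ i) : V),
    fun a ha hx hy => ?_⟩
  have hproj : ∀ (j : Bk.O) (f : Bk.O → Bk.space),
      (j : AddMonoid.End V) (∑ i : Bk.O, Bk.rep i • (f i : V)) = Bk.rep j • (f j : V) := by
    intro j f
    rw [map_sum, Finset.sum_eq_single j (fun k _ hk => by rw [Bk.proj_rep j k (f k).2, if_neg (Ne.symm hk)])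
      (fun h => absurd (Finset.mem_univ j) h), Bk.proj_rep j j (f j).2, if_pos rfl]
  set A0 : A := ⟨a, ha⟩
  have hmove : ∀ (f : Bk.O → Bk.space),
      a • (∑ i : Bk.O, Bk.rep i • (f i : V)) = ∑ i : Bk.O, Bk.rep i • (f i : V) → ∀ i,
      res Bk.stab Bk.space Bk.inv_space ⟨_, Bk.key_stab A0 i⟩ • f i = f (Bk.perm A0 i) := by
    intro f hf i
    have h1 := cj_apply_smul a (i : AddMonoid.End V) (∑ i : Bk.O, Bk.rep i • (f i : V))
    rw [hf, show cj a (i : AddMonoid.End V) = (Bk.perm A0 i : AddMonoid.End V) from rfl, hproj,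
      hproj] at h1
    refine Subtype.ext ?_
    rw [res_smul]
    show ((Bk.rep (Bk.perm A0 i))⁻¹ * a * Bk.rep i) • (f i : V) = _
    rw [mul_smul, mul_smul, ← h1, inv_smul_smul]
  have hx' := hmove (fun i => P (δ i)) hx
  have hy' := hmove (fun i => P' (δ i)) hy
  have hperm : Bk.perm A0 = 1 := hδ _ ⟨A0, rfl⟩ fun i =>
    (horb _ _ _ ⟨_, rfl⟩ (hx' i) (hy' i)).symm
  have := Bk.faith A0 hperm fun i y hy0 => by
    have e : Bk.perm A0 i = i := by rw [hperm]; rfl
    have h1 := hx' i
    have h2 := hy' i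
    simp only [e] at h1 h2
    have h3 := hreg _ _ ⟨_, rfl⟩ h1 h2
    rw [res_eq_one_iff] at h3
    have h4 := h3 y hy0
    simp only [e] at h4
    exact h4
  exact congrArg Subtype.val this

end Blocks

end CfsgLib.OddBase
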