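import Cfsg.Agent.OddBase.Colour

/-!
The ring spanned by a normal abelian subgroup of an irreducible group is a field, or yields a system
of blocks; pairs for groups with a system of blocks.
-/

set_option autoImplicit false
set_option linter.style.haveILetI false
set_option linter.unusedSectionVars false

universe u

namespace CfsgLib.OddBase

variable {V : Type u} [AddCommGroup V]

/-- Conjugation of endomorphisms by an automorphism. -/
def cj (a : Aut V) : AddMonoid.End V →+* AddMonoid.End V where
  toFun x := (a : AddMonoid.End V) * x * ((a⁻¹ : Aut V) : AddMonoid.End V)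
  map_one' := by simp
  map_mul' x y := by simp [mul_assoc]
  map_zero' := by simp
  map_add' x y := by simp [mul_add, add_mul]

lemma cj_cj (a b : Aut V) (x : AddMonoid.End V) : cj a (cj b x) = cj (a * b) x := by
  simp [cj, mul_assoc]

@[simp] lemma cj_one (x : AddMonoid.End V) : cj (1 : Aut V) x = x := by simp [cj]

lemma cj_apply_smul (a : Aut V) (x : AddMonoid.End V) (v : V) : cj a x (a • v) = a • x v := by
  show (a : AddMonoid.End V) (x ((a⁻¹ : Aut V) • a • v)) = a • x v
  rw [inv_smul_smul]
  rfl

lemma cj_coe (a b : Aut V) : cj a (b : AddMonoid.End V) = ((a * b * a⁻¹ : Aut V) : AddMonoid.End V) := by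
  simp [cj]

/-- A subgroup normalised by `A` and contained in it. -/
def NormSub (A B : Subgroup (Aut V)) : Prop := B ≤ A ∧ ∀ a ∈ A, ∀ b ∈ B, a * b * a⁻¹ ∈ B

/-- The ring spanned by a subgroup. -/
def spanRing (B : Subgroup (Aut V)) : Subring (AddMonoid.End V) :=
  Subring.closure ((fun b : Aut V => (b : AddMonoid.End V)) '' (B : Set (Aut V)))

lemma coe_mem_spanRing {B : Subgroup (Aut V)} {b : Aut V} (hb : b ∈ B) :
    (b : AddMonoid.End V) ∈ spanRing B := Subring.subset_closure ⟨b, hb, rfl⟩

lemma spanRing_cj {A B : Subgroup (Aut V)} (hB : NormSub A B) {a : Aut V} (ha : a ∈ A)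
    {x : AddMonoid.End V} (hx : x ∈ spanRing B) : cj a x ∈ spanRing B := by
  have : spanRing B ≤ (spanRing B).comap (cj a) := Subring.closure_le.mpr (by
    rintro _ ⟨b, hb, rfl⟩
    show cj a _ ∈ spanRing B
    rw [cj_coe]
    exact coe_mem_spanRing (hB.2 a ha b hb))
  exact this hx

lemma spanRing_comm {B : Subgroup (Aut V)} (hB : ∀ a ∈ B, ∀ b ∈ B, a * b = b * a)
    {x y : AddMonoid.End V} (hx : x ∈ spanRing B) (hy : y ∈ spanRing B) : x * y = y * x := by
  set S := (fun b : Aut V => (b : AddMonoid.End V)) '' (B : Set (Aut V))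
  have h1 : spanRing B ≤ Subring.centralizer S := Subring.closure_le.mpr (by
    rintro _ ⟨b, hb, rfl⟩
    refine Subring.mem_centralizer_iff.mpr ?_
    rintro _ ⟨c, hc, rfl⟩
    simp only [← Units.val_mul, hB c hc b hb])
  have h2 : spanRing B ≤ Subring.centralizer (spanRing B : Set (AddMonoid.End V)) :=
    Subring.closure_le.mpr fun s hs => Subring.mem_centralizer_iff.mpr fun z hz =>
      ((Subring.mem_centralizer_iff.mp (h1 hz)) s hs).symm
  exact Subring.mem_centralizer_iff.mp (h2 hy) x hx

/-- The fixed subgroup of an endomorphism. -/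
def fixOf (x : AddMonoid.End V) : AddSubgroup V where
  carrier := {v | x v = v}
  zero_mem' := map_zero x
  add_mem' {a b} (ha : x a = a) (hb : x b = b) := show x (a + b) = a + b by rw [map_add, ha, hb]
  neg_mem' {a} (ha : x a = a) := show x (-a) = -a by rw [map_neg, ha]

lemma mem_fixOf {x : AddMonoid.End V} {v : V} : v ∈ fixOf x ↔ x v = v := Iff.rfl

/-- A transitive family of orthogonal idempotents with sum one. -/
structure Blocks (A : Subgroup (Aut V)) where
  O : Finset (AddMonoid.End V)
  two : 2 ≤ O.card
  orth : ∀ i ∈ O, ∀ j ∈ O, i ≠ j → i * j = 0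
  idem : ∀ i ∈ O, i * i = i
  ne_zero : ∀ i ∈ O, i ≠ 0
  sum_eq : ∑ i ∈ O, i = 1
  conj_mem : ∀ a ∈ A, ∀ i ∈ O, cj a i ∈ O
  trans : ∀ i ∈ O, ∀ j ∈ O, ∃ a ∈ A, cj a i = j

open scoped Classical in
/-- Irreducible: the span of a normal abelian subgroup is a field or gives blocks. -/
theorem blocks_or_field [Finite V] {A B : Subgroup (Aut V)} (hirr : Irr A) (hB : NormSub A B)
    (hBc : ∀ a ∈ B, ∀ b ∈ B, a * b = b * a) :
    Nonempty (Blocks A) ∨ ∀ x ∈ spanRing B, x ≠ 0 → ∃ y ∈ spanRing B, x * y = 1 := by
  classical
  set L := spanRing B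
  by_cases hid : ∀ e ∈ L, e * e = e → e = 0 ∨ e = 1
  · right
    have hred : ∀ x ∈ L, x * x = 0 → x = 0 := by
      intro x hx hxx
      by_contra hx0
      let K : AddSubgroup V :=
        { carrier := {v | ∀ y ∈ L, y * y = 0 → y v = 0}
          zero_mem' := fun y _ _ => map_zero y
          add_mem' := fun {a b} ha hb y hy h0 => by rw [map_add, ha y hy h0, hb y hy h0, add_zero]
          neg_mem' := fun {a} ha y hy h0 => by rw [map_neg, ha y hy h0, neg_zero] }
      have hK : Inv A K := fun a ha v hv y hy h0 => by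
        have h1 := hv (cj a⁻¹ y) (spanRing_cj hB (A.inv_mem ha) hy) (by rw [← map_mul, h0, map_zero])
        have h2 := cj_apply_smul a (cj a⁻¹ y) v
        rw [cj_cj, mul_inv_cancel, cj_one, h1, smul_zero] at h2
        exact h2
      rcases hirr K hK with hb | ht
      · exfalso
        -- a product of square-zero elements of maximal length is non-zero
        have : Fintype (AddMonoid.End V) := Fintype.ofFinite _
        let Z : Finset (AddMonoid.End V) := Finset.univ.filter fun y => y ∈ L ∧ y * y = 0
        have key : ∀ T : Finset (AddMonoid.End V), T ⊆ Z → ∀ v : V, v ≠ 0 →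
            ∃ w : V, w ≠ 0 ∧ ∀ y ∈ T, y w = 0 := by
          intro T
          induction T using Finset.induction_on with
          | empty => exact fun _ v hv => ⟨v, hv, by simp⟩
          | insert y T hyT ih =>
            intro hT v hv
            obtain ⟨w, hw, hwT⟩ := ih (fun z hz => hT (Finset.mem_insert_of_mem hz)) v hv
            have hy := hT (Finset.mem_insert_self y T)
            simp only [Z, Finset.mem_filter, Finset.mem_univ, true_and] at hy
            by_cases hyw : y w = 0
            · exact ⟨w, hw, fun z hz => by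
                rcases Finset.mem_insert.mp hz with rfl | hz
                · exact hyw
                · exact hwT z hz⟩
            · refine ⟨y w, hyw, fun z hz => ?_⟩
              rcases Finset.mem_insert.mp hz with rfl | hz
              · exact DFunLike.congr_fun hy.2 w
              · have hzL := hT (Finset.mem_insert_of_mem hz)
                simp only [Z, Finset.mem_filter, Finset.mem_univ, true_and] at hzL
                have := DFunLike.congr_fun (spanRing_comm hBc hzL.1 hy.1) w
                change z (y w) = y (z w) at this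
                rw [this, hwT z hz, map_zero]
        obtain ⟨v, hv⟩ : ∃ v : V, v ≠ 0 := by
          by_contra h
          push Not at h
          exact hx0 (DFunLike.ext _ _ fun v => by rw [h v, map_zero]; rfl)
        obtain ⟨w, hw, hwZ⟩ := key Z subset_rfl v hv
        have : w ∈ K := fun y hy h0 => hwZ y (by simp [Z, hy, h0])
        rw [hb, AddSubgroup.mem_bot] at this
        exact hw this
      · exact absurd (DFunLike.ext _ _ fun v => (show v ∈ K by rw [ht]; trivial) x hx hxx) hx0
    intro x hx hx0
    obtain ⟨i, j, hij, hpow⟩ := Finite.exists_ne_map_eq_of_infinite (fun n : ℕ => x ^ (n + 1))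
    wlog hlt : i < j generalizing i j
    · exact this j i (Ne.symm hij) hpow.symm (by omega)
    change x ^ (i + 1) = x ^ (j + 1) at hpow
    obtain ⟨d, rfl⟩ : ∃ d, j = i + d := ⟨j - i, by omega⟩
    have hd : 1 ≤ d := by omega
    have hper : ∀ s t, i + 1 ≤ s → x ^ (s + t * d) = x ^ s := by
      intro s t hs
      induction t with
      | zero => simp
      | succ t ih =>
        obtain ⟨r, hr⟩ : ∃ r, s + t * d = (i + 1) + r := ⟨s + t * d - (i + 1), by omega⟩
        have : s + (t + 1) * d = (i + d + 1) + r := by rw [add_mul]; omega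
        rw [this, pow_add, ← hpow, ← pow_add, ← hr, ih]
    have hpne : ∀ n, x ^ n ≠ 0 := by
      intro n
      induction n using Nat.strong_induction_on with
      | _ n ih =>
        intro hn
        rcases Nat.lt_or_ge n 2 with h | h
        · interval_cases n
          · rw [pow_zero] at hn
            exact hx0 (by rw [← mul_one x, hn, mul_zero])
          · rw [pow_one] at hn
            exact hx0 hn
        · refine ih ((n + 1) / 2) (by omega) (hred _ (pow_mem hx _) ?_)
          rw [← pow_add, show (n + 1) / 2 + (n + 1) / 2 = n + ((n + 1) / 2 + (n + 1) / 2 - n) by omega,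
            pow_add, hn, zero_mul]
    set k := (i + 1) * d with hk
    have hki : i + 1 ≤ k := Nat.le_mul_of_pos_right _ (by omega)
    have hidem : x ^ k * x ^ k = x ^ k := by
      rw [← pow_add, show k + k = k + (i + 1) * d from rfl, hper k (i + 1) hki]
    rcases hid _ (pow_mem hx k) hidem with h0 | h1
    · exact absurd h0 (hpne k)
    · refine ⟨x ^ (k - 1), pow_mem hx _, ?_⟩
      rw [← pow_succ', show k - 1 + 1 = k by omega, h1]
  · left
    push Not at hid
    obtain ⟨e, heL, hee, he0, he1⟩ := hid
    let P : Set (AddMonoid.End V) := {d | d ∈ L ∧ d * d = d ∧ d ≠ 0}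
    obtain ⟨ε, hεP, hmin⟩ := Set.exists_min_image P (fun d => Nat.card (fixOf d)) (Set.toFinite P)
      ⟨e, heL, hee, he0⟩
    obtain ⟨hεL, hεi, hε0⟩ := hεP
    have hatom : ∀ d ∈ L, d * d = d → d * ε = 0 ∨ d * ε = ε := by
      intro d hdL hdd
      by_cases hz : d * ε = 0
      · exact Or.inl hz
      right
      have hcm := spanRing_comm hBc hdL hεL
      have hP : d * ε ∈ P := ⟨L.mul_mem hdL hεL, by
        calc d * ε * (d * ε) = d * (ε * d) * ε := by simp only [mul_assoc]
          _ = d * (d * ε) * ε := by rw [hcm]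
          _ = d * ε := by rw [← mul_assoc, hdd, mul_assoc, hεi], hz⟩
      have hle : fixOf (d * ε) ≤ fixOf ε := fun v hv => by
        rw [mem_fixOf] at hv ⊢
        have h2 : ε ((d * ε) v) = (d * ε) v := by
          show (ε * (d * ε)) v = _
          rw [hcm, ← mul_assoc, hεi]
        rwa [hv] at h2
      have heq : fixOf (d * ε) = fixOf ε := by
        refine SetLike.coe_injective (Set.eq_of_subset_of_ncard_le hle ?_ (Set.toFinite _))
        rw [← Nat.card_coe_set_eq, ← Nat.card_coe_set_eq]
        exact hmin _ hP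
      refine DFunLike.ext _ _ fun v => ?_
      have h3 : ε v ∈ fixOf (d * ε) := by
        rw [heq, mem_fixOf]
        exact DFunLike.congr_fun hεi v
      rw [mem_fixOf] at h3
      change d (ε (ε v)) = ε v at h3
      rw [show ε (ε v) = ε v from DFunLike.congr_fun hεi v] at h3
      exact h3
    have : Fintype (AddMonoid.End V) := Fintype.ofFinite _
    let O : Finset (AddMonoid.End V) := Finset.univ.filter fun i => ∃ a ∈ A, cj a ε = i
    have hmem : ∀ i, i ∈ O ↔ ∃ a ∈ A, cj a ε = i := fun i => by simp [O]
    have hL : ∀ i ∈ O, i ∈ L := fun i hi => by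
      obtain ⟨a, ha, rfl⟩ := (hmem i).mp hi
      exact spanRing_cj hB ha hεL
    have hidem : ∀ i ∈ O, i * i = i := fun i hi => by
      obtain ⟨a, ha, rfl⟩ := (hmem i).mp hi
      rw [← map_mul, hεi]
    have hatom' : ∀ i ∈ O, ∀ j ∈ O, j * i = 0 ∨ j * i = i := by
      intro i hi j hj
      obtain ⟨a, ha, rfl⟩ := (hmem i).mp hi
      have hj' : cj a⁻¹ j ∈ L := spanRing_cj hB (A.inv_mem ha) (hL j hj)
      have hj2 : cj a⁻¹ j * cj a⁻¹ j = cj a⁻¹ j := by rw [← map_mul, hidem j hj]
      have hjj : cj a (cj a⁻¹ j) = j := by rw [cj_cj, mul_inv_cancel, cj_one]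
      rcases hatom _ hj' hj2 with h | h
      · left; rw [← hjj, ← map_mul, h, map_zero]
      · right; conv_lhs => rw [← hjj, ← map_mul, h]
    have horth : ∀ i ∈ O, ∀ j ∈ O, i ≠ j → i * j = 0 := by
      intro i hi j hj hne
      rcases hatom' j hj i hi with h | h
      · exact h
      rcases hatom' i hi j hj with h' | h'
      · rw [spanRing_comm hBc (hL i hi) (hL j hj), h']
      · exact absurd (by rw [← h', spanRing_comm hBc (hL j hj) (hL i hi), h]) hne
    have hconj : ∀ a ∈ A, ∀ i ∈ O, cj a i ∈ O := by
      intro a ha i hi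
      obtain ⟨b, hb, rfl⟩ := (hmem i).mp hi
      exact (hmem _).mpr ⟨a * b, A.mul_mem ha hb, (cj_cj a b ε).symm⟩
    have hεO : ε ∈ O := (hmem ε).mpr ⟨1, A.one_mem, cj_one ε⟩
    set s := ∑ i ∈ O, i with hs
    have hsa : ∀ a ∈ A, cj a s = s := by
      intro a ha
      rw [hs, map_sum]
      refine Finset.sum_bij (fun i _ => cj a i) (fun i hi => hconj a ha i hi) ?_ ?_ (fun _ _ => rfl)
      · intro i _ j _ h
        have := congrArg (cj a⁻¹) h
        simpa [cj_cj] using this
      · exact fun j hj => ⟨cj a⁻¹ j, hconj _ (A.inv_mem ha) j hj, by simp [cj_cj]⟩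
    have hsε : s * ε = ε := by
      rw [hs, Finset.sum_mul, Finset.sum_eq_single ε (fun i hi hne => horth i hi ε hεO hne)
        (fun h => absurd hεO h), hεi]
    have hinv : Inv A (fixOf s) := fun a ha v hv => by
      rw [mem_fixOf] at hv ⊢
      conv_lhs => rw [← hsa a ha]
      rw [cj_apply_smul, hv]
    have hs1 : s = 1 := by
      rcases hirr _ hinv with h | h
      · exfalso
        refine hε0 (DFunLike.ext _ _ fun v => ?_)
        have : ε v ∈ fixOf s := DFunLike.congr_fun hsε v
        rw [h, AddSubgroup.mem_bot] at this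
        exact this
      · exact DFunLike.ext _ _ fun v => (show v ∈ fixOf s by rw [h]; trivial)
    have hadj : ∀ i ∈ O, i ≠ 0 := by
      intro i hi h
      obtain ⟨a, ha, rfl⟩ := (hmem i).mp hi
      have := congrArg (cj a⁻¹) h
      rw [cj_cj, inv_mul_cancel, cj_one, map_zero] at this
      exact hε0 this
    refine ⟨⟨O, ?_, horth, hidem, hadj, hs1, hconj, fun i hi j hj => ?_⟩⟩
    · by_contra h
      have hO : O = {ε} := by
        refine (Finset.eq_singleton_iff_unique_mem).mpr ⟨hεO, fun i hi => ?_⟩
        exact Finset.card_le_one.mp (by omega) i hi ε hεO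
      have hε1 : ε = 1 := by rw [← hs1, hs, hO, Finset.sum_singleton]
      have hle := hmin e ⟨heL, hee, he0⟩
      refine he1 (DFunLike.ext _ _ fun v => ?_)
      have htop : fixOf e = fixOf ε := by
        refine SetLike.coe_injective (Set.eq_of_subset_of_ncard_le ?_ ?_ (Set.toFinite _))
        · intro w _
          show ε w = w
          rw [hε1]; rfl
        · rw [← Nat.card_coe_set_eq, ← Nat.card_coe_set_eq]
          exact hle
      have : v ∈ fixOf e := by
        rw [htop, mem_fixOf, hε1]; rfl
      exact this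
    · obtain ⟨a, ha, rfl⟩ := (hmem i).mp hi
      obtain ⟨b, hb, rfl⟩ := (hmem j).mp hj
      exact ⟨b * a⁻¹, A.mul_mem hb (A.inv_mem ha), by rw [cj_cj, inv_mul_cancel_right]⟩

end CfsgLib.OddBase
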