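import Cfsg.Agent.OddBase.Basic

/-!
Subsets with trivial setwise stabiliser for odd-order soluble permutation groups (Gluck), relative
to the existence of pairs for linear groups of the same size.
-/

set_option autoImplicit false
set_option linter.style.haveILetI false

universe u

namespace CfsgLib.OddBase

open Equiv

/-- A two-colouring fixed by the identity only. -/
def Col {Ω : Type u} (S : Subgroup (Perm Ω)) : Prop :=
  ∃ δ : Ω → Bool, ∀ g ∈ S, (∀ x, δ (g x) = δ x) → g = 1

/-- Every soluble completely reducible group of odd order on a module with `n` elements has a pair. -/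
def LinGood (n : ℕ) : Prop :=
  ∀ (V : Type u) [AddCommGroup V] [Finite V], Nat.card V = n → ∀ A : Subgroup (Aut V),
    Group.IsSolvable A → Odd (Nat.card A) → CR A → HasPair A

/-- Bounds for irreducible groups of odd order on very small modules. -/
def SmallBound : Prop :=
  ∀ (V : Type u) [AddCommGroup V] [Finite V] (A : Subgroup (Aut V)),
    Group.IsSolvable A → Odd (Nat.card A) → Irr A →
      (Nat.card V = 9 → Nat.card A = 1) ∧ (Nat.card V = 25 → Nat.card A ≤ 3) ∧
      (Nat.card V = 27 → Nat.card A ≤ 39)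

variable {Ω : Type u}

/-- Restriction to an invariant subset. -/
def resPerm (S : Subgroup (Perm Ω)) (P : Ω → Prop) (h : ∀ g ∈ S, ∀ x, P (g x) ↔ P x) :
    S →* Perm {x // P x} where
  toFun g := (g : Perm Ω).subtypePerm (h g g.2)
  map_one' := by ext x; simp
  map_mul' a b := by ext x; rfl

@[simp] lemma resPerm_apply (S : Subgroup (Perm Ω)) (P : Ω → Prop) (h : ∀ g ∈ S, ∀ x, P (g x) ↔ P x)
    (g : S) (x : {x // P x}) : ((resPerm S P h g x : {x // P x}) : Ω) = (g : Perm Ω) x := rfl

open scoped Classical in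
lemma col_union (S : Subgroup (Perm Ω)) (P : Ω → Prop) (h : ∀ g ∈ S, ∀ x, P (g x) ↔ P x)
    (h1 : Col (resPerm S P h).range)
    (h2 : Col (resPerm S (fun x => ¬ P x) (fun g hg x => not_congr (h g hg x))).range) : Col S := by
  obtain ⟨a, ha⟩ := h1
  obtain ⟨b, hb⟩ := h2
  refine ⟨fun x => if hx : P x then a ⟨x, hx⟩ else b ⟨x, hx⟩, fun g hg hfix => ?_⟩
  have e1 := ha _ ⟨⟨g, hg⟩, rfl⟩ fun x => by
    have := hfix x
    simp only [x.2, (h g hg x).mpr x.2, dif_pos] at this
    exact this
  have e2 := hb _ ⟨⟨g, hg⟩, rfl⟩ fun x => by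
    have := hfix x
    simp only [x.2, mt (h g hg x).mp x.2, dif_neg, not_false_iff] at this
    exact this
  ext x
  by_cases hx : P x
  · exact congrArg Subtype.val (Perm.ext_iff.mp e1 ⟨x, hx⟩)
  · exact congrArg Subtype.val (Perm.ext_iff.mp e2 ⟨x, hx⟩)

/-- Composition of a colouring on the blocks with one inside a block. -/
lemma col_blocks {Q : Type u} (S : Subgroup (Perm Ω)) (hodd : Odd (Nat.card S)) (φ : S →* Perm Q)
    (π : Ω → Q) (hπ : ∀ (g : S) x, π ((g : Perm Ω) x) = φ g (π x)) (j0 : Q) (sec : Q → S)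
    (hsec : ∀ j, φ (sec j) j0 = j) (hne : ∃ x, π x = j0) (η : Ω → Bool)
    (hη : ∀ t : S, φ t j0 = j0 → (∀ x, π x = j0 → η ((t : Perm Ω) x) = η x) →
      ∀ x, π x = j0 → (t : Perm Ω) x = x)
    (hε : Col φ.range) : Col S := by
  obtain ⟨ε, hε⟩ := hε
  refine ⟨fun x => xor (η ((↑(sec (π x))⁻¹ : Perm Ω) x)) (ε (π x)), fun g hg hfix => ?_⟩
  set G : S := ⟨g, hg⟩ with hG
  have hgj : ∀ x, π (g x) = φ G (π x) := fun x => hπ G x
  have key : ∀ j, φ ((sec (φ G j))⁻¹ * G * sec j) j0 = j0 := by
    intro j
    simp only [map_mul, map_inv, Perm.mul_apply, hsec]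
    rw [Perm.inv_eq_iff_eq]
    exact (hsec _).symm
  have hcol : ∀ j x, π x = j0 →
      xor (η ((↑((sec (φ G j))⁻¹ * G * sec j) : Perm Ω) x)) (ε (φ G j)) = xor (η x) (ε j) := by
    intro j x hx
    have hpx : π ((sec j : Perm Ω) x) = j := by rw [hπ, hx, hsec]
    have := hfix ((sec j : Perm Ω) x)
    simp only [hgj, hpx] at this
    simp only [Subgroup.coe_mul, Perm.mul_apply]
    rw [this]
    simp
  have heps : ∀ j, ε (φ G j) = ε j := by
    intro j
    by_contra hne'
    set t := (sec (φ G j))⁻¹ * G * sec j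
    have hneg : ∀ x, π x = j0 → η ((t : Perm Ω) x) = !η x := by
      intro x hx
      have := hcol j x hx
      revert this hne'
      generalize η ((t : Perm Ω) x) = b
      generalize ε (φ G j) = c
      generalize ε j = c'
      generalize η x = d
      cases b <;> cases c <;> cases c' <;> cases d <;> simp
    have hp : ∀ x, π x = j0 → π ((t : Perm Ω) x) = j0 := fun x hx => by rw [hπ, hx, key j]
    have h2 : ∀ x, π x = j0 → (t : Perm Ω) x = x := by
      intro x hx
      have hfix2 := hη (t * t) (by rw [map_mul, Perm.mul_apply, key j, key j]) (fun y hy => by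
        simp only [Subgroup.coe_mul, Perm.mul_apply]
        rw [hneg _ (hp y hy), hneg y hy, Bool.not_not]) x hx
      exact smul_eq_of_sq (G := S) (X := Ω) hodd (g := t) (x := x) hfix2
    obtain ⟨x, hx⟩ := hne
    have := hneg x hx
    rw [h2 x hx] at this
    simp at this
  have hφ : φ G = 1 := hε _ ⟨G, rfl⟩ heps
  ext x
  set j := π x
  have hj : φ G j = j := by rw [hφ]; rfl
  set t := (sec (φ G j))⁻¹ * G * sec j
  have hy : π ((↑(sec j)⁻¹ : Perm Ω) x) = j0 := by
    rw [hπ, map_inv, Perm.inv_eq_iff_eq]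
    exact (hsec j).symm
  have h3 := hη t (key j) (fun y hy' => by
    have := hcol j y hy'
    rw [heps j] at this
    revert this
    generalize η ((t : Perm Ω) y) = b
    generalize ε j = c
    generalize η y = d
    cases b <;> cases c <;> cases d <;> simp) _ hy
  simp only [t, hj, Subgroup.coe_mul, Subgroup.coe_inv, Perm.mul_apply] at h3
  simp only [Perm.one_apply]
  have h4 := congrArg (sec j : Perm Ω) h3
  simpa using h4

/-- A permutation of odd order has few invariant colourings. -/
lemma card_inv_colourings [Finite Ω] (S : Subgroup (Perm Ω)) (hodd : Odd (Nat.card S)) {g : Perm Ω}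
    (hg : g ∈ S) {f : ℕ} (hf : Nat.card {x : Ω // g x = x} ≤ f) :
    Nat.card {δ : Ω → Bool // ∀ x, δ (g x) = δ x} ≤ 2 ^ ((Nat.card Ω + 2 * f) / 3) := by
  classical
  have : Fintype Ω := Fintype.ofFinite Ω
  let O := MulAction.orbitRel.Quotient (Subgroup.zpowers g) Ω
  have horb : ∀ ω : O, (∃ x, g x = x ∧ ω = Quotient.mk'' x) ∨ 3 ≤ Nat.card ω.orbit := by
    intro ω
    induction ω using Quotient.inductionOn' with
    | h x =>
      by_cases hx : g x = x
      · exact Or.inl ⟨x, hx, rfl⟩
      refine Or.inr ?_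
      rw [MulAction.orbitRel.Quotient.orbit_mk]
      have hdvd : Nat.card (MulAction.orbit (Subgroup.zpowers g) x) ∣ Nat.card S := by
        refine Dvd.dvd.trans ?_ (Subgroup.card_dvd_of_le (Subgroup.zpowers_le.mpr hg))
        rw [Nat.card_congr (MulAction.orbitEquivQuotientStabilizer (Subgroup.zpowers g) x)]
        exact Subgroup.card_quotient_dvd_card _
      have hodd' := hodd.of_dvd_nat hdvd
      have hne1 : Nat.card (MulAction.orbit (Subgroup.zpowers g) x) ≠ 1 := by
        intro h1
        have : Subsingleton (MulAction.orbit (Subgroup.zpowers g) x) :=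
          (Nat.card_eq_one_iff_unique.mp h1).1
        have hmem : g x ∈ MulAction.orbit (Subgroup.zpowers g) x :=
          ⟨⟨g, Subgroup.mem_zpowers g⟩, rfl⟩
        exact hx (congrArg Subtype.val (Subsingleton.elim
          (⟨g x, hmem⟩ : MulAction.orbit (Subgroup.zpowers g) x) ⟨x, MulAction.mem_orbit_self x⟩))
      obtain ⟨k, hk⟩ := hodd'
      omega
  have hn : Nat.card Ω = ∑ ω : O, Nat.card ω.orbit := by
    rw [Nat.card_congr (MulAction.selfEquivSigmaOrbits' (Subgroup.zpowers g) Ω), Nat.card_sigma]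
  let Fx : Finset O := Finset.univ.filter fun ω : O => Nat.card ω.orbit < 3
  have hFx : Fx.card ≤ f := by
    refine le_trans ?_ hf
    rw [Nat.card_eq_fintype_card, Fintype.card_subtype]
    refine le_trans (Finset.card_le_card (t := (Finset.univ.filter fun x => g x = x).image
      (fun x => (Quotient.mk'' x : O))) fun ω hω => ?_) Finset.card_image_le
    simp only [Fx, Finset.mem_filter, Finset.mem_univ, true_and] at hω
    rcases horb ω with ⟨x, hx, rfl⟩ | h3
    · exact Finset.mem_image.mpr ⟨x, by simp [hx], rfl⟩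
    · omega
  have hO : 3 * Fintype.card O ≤ Nat.card Ω + 2 * Fx.card := by
    rw [hn]
    have h1 : ∀ ω : O, 3 ≤ Nat.card ω.orbit + (if ω ∈ Fx then 2 else 0) := by
      intro ω
      by_cases hω : ω ∈ Fx
      · rw [if_pos hω]
        have : 0 < Nat.card ω.orbit := by
          have : Nonempty ω.orbit := ⟨⟨ω.out, MulAction.orbitRel.Quotient.mem_orbit.mpr (Quotient.out_eq' ω)⟩⟩
          exact Nat.card_pos
        omega
      · rw [if_neg hω]
        simp only [Fx, Finset.mem_filter, Finset.mem_univ, true_and, not_lt] at hω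
        omega
    calc 3 * Fintype.card O = ∑ _ω : O, 3 := by simp [mul_comm]
      _ ≤ ∑ ω : O, (Nat.card ω.orbit + if ω ∈ Fx then 2 else 0) := Finset.sum_le_sum fun ω _ => h1 ω
      _ = _ := by rw [Finset.sum_add_distrib, Finset.sum_ite_mem]; simp [mul_comm]
  have hinv : ∀ δ : Ω → Bool, (∀ x, δ (g x) = δ x) → ∀ z : ℤ, ∀ x, δ ((g ^ z) x) = δ x := by
    intro δ hδ z
    induction z using Int.induction_on with
    | zero => simp
    | succ k ih => intro x; rw [zpow_add_one, Perm.mul_apply, ih, hδ]
    | pred k ih =>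
      intro x
      rw [zpow_sub_one, Perm.mul_apply, ih, ← hδ (g⁻¹ x)]
      simp
  have hle : Nat.card {δ : Ω → Bool // ∀ x, δ (g x) = δ x} ≤ Nat.card (O → Bool) := by
    refine Nat.card_le_card_of_injective (fun δ ω => δ.1 ω.out) fun a b hab => Subtype.ext (funext fun x => ?_)
    have hx : x ∈ MulAction.orbit (Subgroup.zpowers g) (Quotient.mk'' x : O).out := by
      rw [← MulAction.orbitRel_apply]
      exact (MulAction.orbitRel (Subgroup.zpowers g) Ω).symm (Quotient.exact' (Quotient.out_eq' _))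
    obtain ⟨⟨c, z, rfl⟩, hc⟩ := hx
    have := congrFun hab (Quotient.mk'' x : O)
    simp only at this
    rw [← hc]
    show a.1 ((g ^ z) _) = b.1 ((g ^ z) _)
    rw [hinv a.1 a.2, hinv b.1 b.2, this]
  refine hle.trans ?_
  rw [Nat.card_fun]
  simp only [Nat.card_eq_fintype_card, Fintype.card_bool]
  refine Nat.pow_le_pow_right (by norm_num) ?_
  rw [Nat.le_div_iff_mul_le (by norm_num), ← Nat.card_eq_fintype_card (α := Ω)]
  omega

/-- The numerical inequality for affine groups of odd degree. -/
lemma pow_bound (n : ℕ) (h : 49 ≤ n) : n ^ 3 ≤ 2 ^ (4 * n / 9) := by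
  induction n using Nat.strong_induction_on with
  | _ n ih =>
    by_cases h9 : n < 58
    · interval_cases n <;> norm_num
    · have := ih (n - 9) (by omega) (by omega)
      have e : 4 * n / 9 = 4 * (n - 9) / 9 + 4 := by omega
      rw [e, pow_add]
      obtain ⟨k, rfl⟩ : ∃ k, n = k + 9 := ⟨n - 9, by omega⟩
      simp only [Nat.add_sub_cancel] at this ⊢
      have h2 : (k + 9) ^ 3 ≤ 16 * k ^ 3 := by
        have : 49 ≤ k := by omega
        nlinarith [Nat.mul_le_mul this this, Nat.mul_le_mul (Nat.mul_le_mul this this) (le_refl k)]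
      calc (k + 9) ^ 3 ≤ 16 * k ^ 3 := h2
        _ ≤ _ := by rw [mul_comm]; exact Nat.mul_le_mul_right _ this

end CfsgLib.OddBase
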