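import Cfsg.Agent.OddBase.Small

/-!
A completely reducible soluble linear group of odd order has two vectors with trivial common
stabiliser.
-/

set_option autoImplicit false
set_option linter.style.haveILetI false
set_option linter.unusedSectionVars false

universe u

namespace CfsgLib.OddBase

open scoped commutatorElement

lemma sq_lt_four_mul_two_pow (d : ℕ) : d ^ 2 < 4 * 2 ^ d := by
  have : ∀ d, d + 1 ≤ 2 * 2 ^ (d / 2) := by
    intro d
    induction d using Nat.strong_induction_on with
    | _ d ih =>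
      by_cases h : d < 4
      · interval_cases d <;> norm_num
      · have := ih (d - 2) (by omega)
        rw [show d / 2 = (d - 2) / 2 + 1 by omega, pow_succ]
        omega
  have h2 : 2 ^ (d / 2) * 2 ^ (d / 2) ≤ 2 ^ d := by
    rw [← pow_add]; exact Nat.pow_le_pow_right (by norm_num) (by omega)
  have := this d
  nlinarith

lemma six_mul_pow_bound (e : ℕ) (he : 29 ≤ e) : e ^ 6 ≤ 6 * 2 ^ (e - 2) := by
  induction e, he using Nat.le_induction with
  | base => norm_num
  | succ e he ih =>
    have h : (e + 1) ^ 6 ≤ 2 * e ^ 6 := by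
      have hA : (e + 1) ^ 2 * 100 ≤ 114 * e ^ 2 := by nlinarith
      have h3 : ((e + 1) ^ 2 * 100) ^ 3 ≤ (114 * e ^ 2) ^ 3 := Nat.pow_le_pow_left hA 3
      ring_nf at h3 ⊢
      generalize e ^ 6 = a6 at h3 ⊢
      omega
    calc (e + 1) ^ 6 ≤ 2 * e ^ 6 := h
      _ ≤ 2 * (6 * 2 ^ (e - 2)) := Nat.mul_le_mul_left _ ih
      _ = _ := by rw [show e + 1 - 2 = (e - 2) + 1 by omega, pow_succ]; ring

/-- The numerical heart of the primitive case. -/
lemma uh_bound {e m q h : ℕ} (he : 5 ≤ e) (hodd : Odd e) (hem : e ≤ m) (hq : 4 ≤ q)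
    (hr : ∀ r : ℕ, r.Prime → r ∣ e → r ∣ q - 1) (hq12 : q ≠ 12) (h6 : 6 * h ≤ (e * e) ^ 2)
    (h5 : e = 5 → h ≤ 3) (h7 : e = 7 → h ≤ 3) (h9 : e = 9 → h ≤ 5) :
    e * e * h ≤ q ^ (2 * ((m + 3) / 4) - 1) := by
  suffices hs : e * e * h ≤ q ^ (2 * ((e + 3) / 4) - 1) from
    hs.trans (Nat.pow_le_pow_right (by omega) (by omega))
  obtain ⟨k, hk⟩ := hodd
  have gen : ∀ q0 : ℕ, q0 ≤ q → e * e * (e * e) ^ 2 ≤ 6 * q0 ^ (2 * ((e + 3) / 4) - 1) →
      e * e * h ≤ q ^ (2 * ((e + 3) / 4) - 1) := by
    intro q0 hq0 hb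
    have h1 : q0 ^ (2 * ((e + 3) / 4) - 1) ≤ q ^ (2 * ((e + 3) / 4) - 1) := Nat.pow_le_pow_left hq0 _
    have h2 := Nat.mul_le_mul_left (e * e) h6
    nlinarith
  by_cases hbig : 29 ≤ e
  · refine gen 4 hq ?_
    calc e * e * (e * e) ^ 2 = e ^ 6 := by ring
      _ ≤ 6 * 2 ^ (e - 2) := six_mul_pow_bound e hbig
      _ ≤ _ := by
        rw [show (4 : ℕ) = 2 ^ 2 by norm_num, ← pow_mul]
        exact Nat.mul_le_mul_left _ (Nat.pow_le_pow_right (by norm_num) (by omega))
  have d3 : 3 ∣ e → 3 ∣ q - 1 := hr 3 Nat.prime_three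
  have d5 : 5 ∣ e → 5 ∣ q - 1 := hr 5 Nat.prime_five
  have d7 : 7 ∣ e → 7 ∣ q - 1 := hr 7 (by norm_num)
  have small : ∀ q0 b : ℕ, q0 ≤ q → h ≤ b → e * e * b ≤ q0 ^ (2 * ((e + 3) / 4) - 1) →
      e * e * h ≤ q ^ (2 * ((e + 3) / 4) - 1) := fun q0 b hq0 hb hh =>
    (Nat.mul_le_mul_left _ hb).trans (hh.trans (Nat.pow_le_pow_left hq0 _))
  interval_cases e
  · exact small 6 3 (by omega) (h5 rfl) (by norm_num)
  · omega
  · exact small 8 3 (by omega) (h7 rfl) (by norm_num)
  · omega
  · exact small 4 5 hq (h9 rfl) (by norm_num)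
  · omega
  · exact gen 13 (by have := hr 11 (by norm_num) dvd_rfl; omega) (by norm_num)
  · omega
  · exact gen 14 (by have := hr 13 (by norm_num) dvd_rfl; omega) (by norm_num)
  · omega
  · exact gen 16 (by omega) (by norm_num)
  · omega
  · exact gen 18 (by have := hr 17 (by norm_num) dvd_rfl; omega) (by norm_num)
  · omega
  · exact gen 20 (by have := hr 19 (by norm_num) dvd_rfl; omega) (by norm_num)
  · omega
  · exact gen 8 (by omega) (by norm_num)
  · omega
  · exact gen 24 (by have := hr 23 (by norm_num) dvd_rfl; omega) (by norm_num)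
  · omega
  · exact gen 6 (by omega) (by norm_num)
  · omega
  · exact gen 4 hq (by norm_num)
  · omega

variable {V : Type u} [AddCommGroup V] {A : Subgroup (Aut V)}

/-- Bounds for the image on `E/A₀`. -/
lemma image_small [Finite V] (S : Setup (Aut V)) (hsol : Group.IsSolvable S.A)
    (hodd : Odd (Nat.card S.A)) :
    (Nat.card S.U = 9 → Nat.card S.act.range = 1) ∧ (Nat.card S.U = 25 → Nat.card S.act.range ≤ 3) ∧
      (Nat.card S.U = 49 → Nat.card S.act.range ≤ 3) ∧ (Nat.card S.U = 81 → Nat.card S.act.range ≤ 5) := by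
  have hR : Group.IsSolvable S.act.range := solvable_range _ hsol
  have hRo : Odd (Nat.card S.act.range) := odd_range _ hodd
  have hdiv : ∀ X : AddSubgroup (Additive S.U), Nat.card X ∣ Nat.card S.U := fun X =>
    AddSubgroup.card_addSubgroup_dvd_card X
  have hirr : Nat.card S.U = 9 ∨ Nat.card S.U = 25 ∨ Nat.card S.U = 49 → Irr S.act.range := by
    intro hc X hX
    obtain ⟨s, hs⟩ := S.isSquare_inv hX
    have hd := hdiv X
    rw [hs] at hd
    have hle : s * s ≤ Nat.card S.U := Nat.le_of_dvd Nat.card_pos hd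
    have hs8 : s < 8 := by rcases hc with h | h | h <;> rw [h] at hle <;> nlinarith
    have : Nat.card X = 1 ∨ Nat.card X = Nat.card S.U := by
      rw [hs]
      rcases hc with h | h | h <;> rw [h] at hd ⊢ <;> interval_cases s <;> omega
    rcases this with h | h
    · exact Or.inl (AddSubgroup.eq_bot_of_card_eq X h)
    · exact Or.inr (AddSubgroup.eq_top_of_card_eq X h)
  refine ⟨fun h => ?_, fun h => ?_, fun h => ?_, fun h => ?_⟩
  · exact (irr_small hR hRo (hirr (by omega))).1 h
  · exact (irr_small hR hRo (hirr (by omega))).2.1 h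
  · exact (irr_small hR hRo (hirr (by omega))).2.2.2.1 h
  · by_cases hi : Irr S.act.range
    · exact (irr_small hR hRo hi).2.2.2.2 h
    · unfold Irr at hi
      push Not at hi
      obtain ⟨X, hX, hX0, hX1⟩ := hi
      obtain ⟨Y, hY, hd, hs⟩ := S.cr_act X hX
      have hsq : ∀ Z : AddSubgroup (Additive S.U), Inv S.act.range Z →
          Nat.card Z = 1 ∨ Nat.card Z = 9 ∨ Nat.card Z = 81 := fun Z hZ => by
        obtain ⟨s, hs'⟩ := S.isSquare_inv hZ
        have hd' := hdiv Z
        rw [hs', h] at hd'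
        have := Nat.le_of_dvd (by norm_num) hd'
        have hs10 : s < 10 := by nlinarith
        rw [hs']
        interval_cases s <;> omega
      have hU81 : Nat.card (Additive S.U) = 81 := h
      have hne : ∀ Z : AddSubgroup (Additive S.U), Inv S.act.range Z → Z ≠ ⊥ → Z ≠ ⊤ → Nat.card Z = 9 := by
        intro Z hZ h0 h1
        rcases hsq Z hZ with e | e | e
        · exact absurd (AddSubgroup.eq_bot_of_card_eq Z e) h0
        · exact e
        · exact absurd (AddSubgroup.eq_top_of_card_eq Z (by rw [e, hU81])) h1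
      have one : ∀ Z : AddSubgroup (Additive S.U), ∀ hZ : Inv S.act.range Z, Nat.card Z = 9 →
          Nat.card (res S.act.range Z hZ).range = 1 := by
        intro Z hZ h9
        refine (irr_small (solvable_range _ hR) (odd_range _ hRo) ?_).1 h9
        intro W hW
        have hW' : Inv S.act.range (W.map Z.subtype) := by
          rintro a ha _ ⟨w, hw, rfl⟩
          exact ⟨res S.act.range Z hZ ⟨a, ha⟩ • w, hW _ ⟨_, rfl⟩ w hw, rfl⟩
        have hcW : Nat.card (W.map Z.subtype) = Nat.card W :=
          (Nat.card_congr (W.equivMapOfInjective Z.subtype Subtype.val_injective).toEquiv).symm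
        have hWle : Nat.card W ∣ 9 := h9 ▸ AddSubgroup.card_addSubgroup_dvd_card W
        rcases hsq _ hW' with e | e | e
        · exact Or.inl (AddSubgroup.eq_bot_of_card_eq W (hcW ▸ e))
        · exact Or.inr (AddSubgroup.eq_top_of_card_eq W (by rw [← hcW, e, h9]))
        · rw [hcW] at e
          rw [e] at hWle
          norm_num at hWle
      have hY0 : Y ≠ ⊥ := by rintro rfl; rw [sup_bot_eq] at hs; exact hX1 hs
      have hY1 : Y ≠ ⊤ := by rintro rfl; rw [inf_top_eq] at hd; exact hX0 hd
      have := card_dvd_sum hX hY hs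
      rw [one X hX (hne X hX hX0 hX1), one Y hY (hne Y hY hY0 hY1)] at this
      omega

/-- The primitive case. -/
theorem prim_pair [Finite V] [Nontrivial V] (hsol : Group.IsSolvable A) (hodd : Odd (Nat.card A))
    (hfield : AllFields A) (hlin : ∀ m < Nat.card V, LinGood.{u} m) : HasPair A := by
  classical
  have : Fintype V := Fintype.ofFinite V
  obtain ⟨D⟩ := exists_primData hsol hfield
  have hSsol : Group.IsSolvable D.S.A := by rw [D.hA]; exact hsol
  have hSodd : Odd (Nat.card D.S.A) := by rw [D.hA]; exact hodd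
  have hq2 : 2 ≤ D.q := by
    rw [D.hq]; exact le_trans D.hp.two_le (Nat.le_self_pow (by have := D.hf; omega) _)
  have h2d : 2 ^ D.d ≤ D.q := by
    rw [D.hq]
    exact (Nat.pow_le_pow_right (by norm_num) (Nat.le_of_dvd D.hf D.hd)).trans
      (Nat.pow_le_pow_left D.hp.two_le _)
  have hqV : D.q ≤ Nat.card V := by
    rw [← D.hV]; exact Nat.le_self_pow (by have := D.hm; omega) _
  have hCA : D.S.C ≤ A := D.S.c_le.trans D.hA.le
  have hA0C : D.S.A0 ≤ D.S.C := D.S.a0_le.trans D.S.e_le
  rcases prim_cases D hodd with ⟨-, hC⟩ | ⟨e, he3, heodd, hU, hem, hq4, hr⟩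
  · have hCeq : D.S.A0 = D.S.C := Subgroup.eq_of_le_of_card_ge hA0C hC.le
    obtain ⟨v, hv⟩ := exists_ne (0 : V)
    set T := A ⊓ MulAction.stabilizer (Aut V) v
    have hT : Nat.card T ≤ D.d := by
      have h : Nat.card T * Nat.card D.S.C ≤ Nat.card A := by
        rw [← Nat.card_prod]
        refine Nat.card_le_card_of_injective
          (fun p : T × D.S.C => (⟨(p.1 : Aut V) * p.2, A.mul_mem p.1.2.1 (hCA p.2.2)⟩ : A)) ?_
        rintro ⟨t, c⟩ ⟨t', c'⟩ h
        have h' : (t : Aut V) * c = t' * c' := congrArg Subtype.val h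
        have hmem : (t' : Aut V)⁻¹ * t ∈ D.S.A0 := by
          rw [hCeq]
          have : (t' : Aut V)⁻¹ * t = (c' : Aut V) * (c : Aut V)⁻¹ := by
            rw [eq_mul_inv_iff_mul_eq, mul_assoc, h', inv_mul_cancel_left]
          rw [this]
          exact D.S.C.mul_mem c'.2 (D.S.C.inv_mem c.2)
        have hfix : ((t' : Aut V)⁻¹ * t) • v = v := by
          rw [mul_smul, show (t : Aut V) • v = v from t.2.2, inv_smul_eq_iff,
            show (t' : Aut V) • v = v from t'.2.2]
        have h1 : (t' : Aut V)⁻¹ * t = 1 := by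
          by_contra hne
          exact hv (D.fpf _ hmem hne v hfix)
        obtain rfl : t = t' := Subtype.ext (inv_mul_eq_one.mp h1).symm
        exact Prod.ext rfl (Subtype.ext (mul_left_cancel h'))
      rw [D.card_A, mul_comm _ D.d] at h
      exact Nat.le_of_mul_le_mul_right h Nat.card_pos
    have hTodd : Odd (Nat.card T) := hodd.of_dvd_nat (Subgroup.card_dvd_of_le inf_le_left)
    have : Fintype T := Fintype.ofFinite T
    obtain ⟨w, hw⟩ : ∃ w : V, ∀ t : T, t • w = w → t = 1 := by
      refine exists_free hTodd (lt_of_le_of_lt (Finset.sum_le_sum (g := fun _ => Nat.sqrt (Nat.card V))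
        fun t ht => ?_) ?_)
      · have hne : (t : Aut V) ≠ 1 := fun e => Finset.ne_of_mem_erase ht (Subtype.ext e)
        rw [Nat.le_sqrt, ← sq]
        have hnC : (t : Aut V) ∉ D.S.C := fun hC' =>
          hv (D.fpf _ (hCeq.ge hC') hne v t.2.2)
        exact D.fix_out _ t.2.1 hnC
      · rw [Finset.sum_const, smul_eq_mul]
        have hc : (Finset.univ.erase (1 : T)).card ≤ D.d := by
          refine (Finset.card_erase_le).trans ?_
          rw [Finset.card_univ, ← Nat.card_eq_fintype_card]
          exact hT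
        refine lt_of_le_of_lt (Nat.mul_le_mul_right _ hc) ?_
        have h1 := Nat.sqrt_le (Nat.card V)
        have h2 := sq_lt_four_mul_two_pow D.d
        have h3 : 2 ^ D.d ≤ Nat.card V := h2d.trans hqV
        have hN : 0 < Nat.card V := Nat.card_pos
        have h4 : (D.d * Nat.sqrt (Nat.card V)) * (D.d * Nat.sqrt (Nat.card V)) <
            (2 * Nat.card V) * (2 * Nat.card V) := by
          calc (D.d * Nat.sqrt (Nat.card V)) * (D.d * Nat.sqrt (Nat.card V))
              = D.d ^ 2 * (Nat.sqrt (Nat.card V) * Nat.sqrt (Nat.card V)) := by ring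
            _ ≤ D.d ^ 2 * Nat.card V := Nat.mul_le_mul_left _ h1
            _ < 4 * 2 ^ D.d * Nat.card V := Nat.mul_lt_mul_of_pos_right h2 hN
            _ ≤ 4 * Nat.card V * Nat.card V := by gcongr
            _ = _ := by ring
        exact Nat.mul_self_lt_mul_self_iff.mp h4
    exact ⟨v, w, fun a ha hav haw => congrArg Subtype.val (hw ⟨a, ha, hav⟩ haw)⟩
  · -- the extraspecial case
    set h := Nat.card (D.S.act.comp (Subgroup.inclusion D.S.c_le)).range
    have hhle : h ≤ Nat.card D.S.act.range :=
      Subgroup.card_le_of_le (fun r ⟨c, hc⟩ => ⟨_, hc⟩)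
    have hUlt : Nat.card D.S.U < Nat.card V := by
      have h1 : 3 ≤ D.m := he3.trans hem
      have h2 : D.m < 2 ^ D.m := Nat.lt_two_pow_self
      calc Nat.card D.S.U ≤ D.m * D.m := D.u_le
        _ < 2 ^ D.m * 2 ^ D.m := Nat.mul_lt_mul'' h2 h2
        _ = 4 ^ D.m := by rw [← mul_pow]; norm_num
        _ ≤ D.q ^ D.m := Nat.pow_le_pow_left hq4 _
        _ = _ := D.hV
    have h6 : 6 * h ≤ (e * e) ^ 2 := by
      rw [← hU]
      exact D.S.six_mul_le hSodd (by rw [hU]; nlinarith)
        (hlin _ hUlt (Additive D.S.U) rfl _ (solvable_range _ hSsol) (odd_range _ hSodd) D.S.cr_act)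
    obtain ⟨i9, i25, i49, i81⟩ := image_small D.S hSsol hSodd
    set a := Nat.card D.S.A0
    have hale : a ≤ D.q - 1 := Nat.le_of_dvd (by omega) D.a0_dvd
    have hcC : Nat.card D.S.C = e * e * a * h := by rw [D.S.card_C, D.S.card_E, hU]
    have hcA : Nat.card A = e * e * a * h * D.d := by rw [D.card_A, hcC]
    have hd1 : 1 ≤ D.d := Nat.pos_of_ne_zero fun h0 => by
      have := D.hd
      rw [h0, zero_dvd_iff] at this
      exact absurd this (by have := D.hf; omega)
    have hh1 : 1 ≤ h := Nat.card_pos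
    set F := 3 * D.m / 4
    have key : e * e * a * h * D.d ≤ D.q ^ D.m ∧
        (1 < h → e * e * a * h * D.q ^ (2 * F) ≤ D.q ^ (2 * D.m)) := by
      by_cases he : e = 3
      · subst he
        have hh : h = 1 := by
          have := hhle
          rw [i9 (by rw [hU])] at this
          omega
        refine ⟨?_, fun hh' => by omega⟩
        rw [hh, mul_one]
        refine le_trans ?_ (Nat.pow_le_pow_right (by omega) (he3.trans hem))
        by_cases hq5 : 5 ≤ D.q
        · have h2 : 2 * D.d ≤ D.q := by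
            refine le_trans ?_ h2d
            obtain ⟨j, hj⟩ : ∃ j, D.d = j + 1 := ⟨D.d - 1, by omega⟩
            rw [hj, pow_succ]
            have := Nat.lt_two_pow_self (n := j)
            omega
          have h3 : 3 * 3 * a * D.d * 2 ≤ 9 * D.q * D.q := by
            calc 3 * 3 * a * D.d * 2 = 9 * a * (2 * D.d) := by ring
              _ ≤ 9 * D.q * D.q := Nat.mul_le_mul (Nat.mul_le_mul_left _ (by omega)) h2
          nlinarith [Nat.mul_le_mul_right (D.q * D.q) hq5]
        · have hq : D.q = 4 := by omega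
          have hd : D.d < 3 := by
            by_contra hd3
            have : 2 ^ 3 ≤ 2 ^ D.d := Nat.pow_le_pow_right (by norm_num) (by omega)
            omega
          have hdodd : Odd D.d := hodd.of_dvd_nat (Dvd.intro_left _ hcA.symm)
          obtain ⟨j, hj⟩ := hdodd
          rw [hq] at hale ⊢
          have : D.d = 1 := by omega
          rw [this]
          omega
      · have hq12 : D.q ≠ 12 := by
          intro h12
          have e2 : 2 ∣ D.p ^ D.f := by rw [← D.hq, h12]; norm_num
          have e3 : 3 ∣ D.p ^ D.f := by rw [← D.hq, h12]; norm_num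
          have p2 := (Nat.prime_dvd_prime_iff_eq Nat.prime_two D.hp).mp (Nat.prime_two.dvd_of_dvd_pow e2)
          have p3 := (Nat.prime_dvd_prime_iff_eq Nat.prime_three D.hp).mp (Nat.prime_three.dvd_of_dvd_pow e3)
          omega
        obtain ⟨k, hk⟩ := heodd
        have hb := uh_bound (h := h) (m := D.m) (by omega) ⟨k, hk⟩ hem hq4 hr hq12 h6
          (fun e5 => hhle.trans (i25 (by rw [hU, e5]))) (fun e7 => hhle.trans (i49 (by rw [hU, e7])))
          (fun e9 => hhle.trans (i81 (by rw [hU, e9])))
        have hdq : D.d ≤ D.q := Nat.lt_two_pow_self.le.trans h2d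
        refine ⟨?_, fun _ => ?_⟩
        · calc e * e * a * h * D.d = (e * e * h) * (a * D.d) := by ring
            _ ≤ D.q ^ (2 * ((D.m + 3) / 4) - 1) * (D.q * D.q) :=
              Nat.mul_le_mul hb (Nat.mul_le_mul (by omega) hdq)
            _ = D.q ^ (2 * ((D.m + 3) / 4) - 1 + 2) := by rw [pow_add]; ring
            _ ≤ _ := Nat.pow_le_pow_right (by omega) (by omega)
        · calc e * e * a * h * D.q ^ (2 * F) = (e * e * h) * a * D.q ^ (2 * F) := by ring
            _ ≤ D.q ^ (2 * ((D.m + 3) / 4) - 1) * D.q * D.q ^ (2 * F) :=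
              Nat.mul_le_mul_right _ (Nat.mul_le_mul hb (by omega))
            _ = D.q ^ (2 * ((D.m + 3) / 4) - 1 + 1 + 2 * F) := by rw [pow_add, pow_succ]
            _ ≤ _ := Nat.pow_le_pow_right (by omega) (by omega)
    obtain ⟨k1, k2⟩ := key
    have : Fintype A := Fintype.ofFinite A
    have hfixeq : ∀ g : A, Nat.card {x : V × V // g • x = x} = Nat.card (fixA (g : Aut V)) ^ 2 := by
      intro g
      rw [sq, ← Nat.card_prod]
      exact Nat.card_congr
        { toFun := fun x => (⟨x.1.1, congrArg Prod.fst x.2⟩, ⟨x.1.2, congrArg Prod.snd x.2⟩)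
          invFun := fun y => ⟨(y.1, y.2), Prod.ext y.1.2 y.2.2⟩
          left_inv := fun _ => rfl
          right_inv := fun _ => rfl }
    obtain ⟨x, hx⟩ : ∃ x : V × V, ∀ g : A, g • x = x → g = 1 := by
      refine exists_free hodd (lt_of_le_of_lt (Finset.sum_le_sum (g := fun g : A => Nat.card V +
        (if (g : Aut V) ∈ D.S.C ∧ (g : Aut V) ∉ D.S.E then D.q ^ (2 * F) else 0)) fun g hg => ?_) ?_)
      · have hg1 : (g : Aut V) ≠ 1 := fun e => Finset.ne_of_mem_erase hg (Subtype.ext e)
        rw [hfixeq]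
        by_cases hC : (g : Aut V) ∈ D.S.C
        · by_cases hE : (g : Aut V) ∈ D.S.E
          · exact (D.fix_E _ hE hg1).trans (Nat.le_add_right _ _)
          · rw [if_pos ⟨hC, hE⟩, mul_comm 2 F, pow_mul]
            exact (Nat.pow_le_pow_left (D.fix_C _ hC hg1) 2).trans (Nat.le_add_left _ _)
        · exact (D.fix_out _ g.2 hC).trans (Nat.le_add_right _ _)
      · rw [Finset.sum_add_distrib, Finset.sum_const, smul_eq_mul, ← Finset.sum_filter, Finset.sum_const,
          smul_eq_mul, Nat.card_prod, Finset.card_erase_of_mem (Finset.mem_univ _), Finset.card_univ,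
          ← Nat.card_eq_fintype_card, hcA]
        generalize hs : Finset.filter (fun g : A => (g : Aut V) ∈ D.S.C ∧ (g : Aut V) ∉ D.S.E) _ = s
        have hN : 0 < Nat.card V := Nat.card_pos
        have h1 : (e * e * a * h * D.d - 1) * Nat.card V < Nat.card V * Nat.card V := by
          refine Nat.mul_lt_mul_of_pos_right ?_ hN
          rw [← D.hV]
          have : 0 < D.q ^ D.m := Nat.pow_pos (by omega)
          omega
        have h2 : s.card * D.q ^ (2 * F) ≤ Nat.card V * Nat.card V := by
          by_cases hh : 1 < h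
          · refine le_trans (Nat.mul_le_mul_right _ ?_) ((k2 hh).trans (le_of_eq ?_))
            · rw [← hcC, ← Nat.card_eq_finsetCard]
              exact Nat.card_le_card_of_injective
                (fun g : s => (⟨((g : A) : Aut V), by have h := g.2; simp only [← hs] at h; exact (Finset.mem_filter.mp h).2.1⟩ : D.S.C))
                (fun g g' hgg => Subtype.ext (Subtype.ext (congrArg (fun z : D.S.C => (z : Aut V)) hgg)))
            · rw [two_mul, pow_add, D.hV]
          · have hCE : D.S.C = D.S.E := by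
              refine (Subgroup.eq_of_le_of_card_ge D.S.e_le ?_).symm
              rw [D.S.card_C]
              have : h = 1 := by omega
              rw [show Nat.card (D.S.act.comp (Subgroup.inclusion D.S.c_le)).range = 1 from this, mul_one]
            have : s = ∅ := by
              rw [← hs]
              exact Finset.filter_eq_empty_iff.mpr fun g _ hgs => hgs.2 (hCE.le hgs.1)
            simp [this]
        omega
    exact ⟨x.1, x.2, fun b hb hv hw => congrArg Subtype.val (hx ⟨b, hb⟩ (Prod.ext hv hw))⟩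

/-- Every module size is good. -/
theorem linGood : ∀ n, LinGood.{u} n := by
  intro n
  induction n using Nat.strong_induction_on with
  | _ n ih =>
    intro V _ _ hn A hsol hodd hcr
    subst hn
    rcases subsingleton_or_nontrivial V with hV | hV
    · exact ⟨0, 0, fun a _ _ _ => aut_ext fun v => Subsingleton.elim _ _⟩
    by_cases hirr : Irr A
    · by_cases hB : Nonempty (Blocks A)
      · obtain ⟨Bk⟩ := hB
        exact Bk.hasPair smallBound hsol hodd hirr ih
      · exact prim_pair hsol hodd (fun B hBn hBc => (blocks_or_field hirr hBn hBc).resolve_left hB) ih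
    · unfold Irr at hirr
      push Not at hirr
      obtain ⟨U, hU, hU0, hU1⟩ := hirr
      obtain ⟨W, hW, hd, hs⟩ := hcr U hU
      have hlt : ∀ X : AddSubgroup V, X ≠ ⊤ → Nat.card X < Nat.card V := fun X hX =>
        lt_of_le_of_ne (Nat.card_le_card_of_injective _ Subtype.val_injective)
          (fun e => hX (AddSubgroup.eq_top_of_card_eq X e))
      have hW1 : W ≠ ⊤ := by rintro rfl; rw [inf_top_eq] at hd; exact hU0 hd
      exact hasPair_sum hU hW hd hs
        (ih _ (hlt U hU1) U rfl _ (solvable_range _ hsol) (odd_range _ hodd) (hcr.res hU))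
        (ih _ (hlt W hW1) W rfl _ (solvable_range _ hsol) (odd_range _ hodd) (hcr.res hW))

/-- A completely reducible soluble group of automorphisms of odd order has a base of size two. -/
theorem exists_pair {V : Type u} [AddCommGroup V] [Finite V] (A : Subgroup (Aut V))
    (hsol : Group.IsSolvable A) (hodd : Odd (Nat.card A)) (hcr : CR A) : HasPair A :=
  linGood _ V rfl A hsol hodd hcr

end CfsgLib.OddBase
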