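import Mathlib

/-!
Non-degenerate alternating pairings of finite abelian groups into cyclic groups.
-/

set_option autoImplicit false
set_option linter.style.haveILetI false

universe u v

namespace CfsgLib.OddBase

/-- A finite abelian group has no more homomorphisms into a cyclic group than elements. -/
lemma card_hom_le (U : Type u) (M : Type v) [CommGroup U] [Finite U] [CommGroup M] [Finite M]
    [IsCyclic M] : Nat.card (U →* M) ≤ Nat.card U := by
  obtain ⟨g, hg⟩ := IsCyclic.exists_generator (α := M)
  have : NeZero (Nat.card M) := ⟨Nat.card_pos.ne'⟩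
  let e : M ≃* rootsOfUnity (Nat.card M) ℂ := mulEquivOfCyclicCardEq (by
    rw [HasEnoughRootsOfUnity.natCard_rootsOfUnity ℂ (Nat.card M)])
  let ι : M →* ℂˣ := (rootsOfUnity (Nat.card M) ℂ).subtype.comp e.toMonoidHom
  have hι : Function.Injective ι := fun a b h => e.injective (Subtype.ext h)
  have : NeZero (Monoid.exponent U) := ⟨Monoid.exponent_ne_zero_of_finite⟩
  have : Finite (U →* ℂˣ) := Nat.finite_of_card_ne_zero (by
    rw [CommGroup.card_monoidHom_of_hasEnoughRootsOfUnity U ℂ]
    exact Nat.card_pos.ne')
  rw [← CommGroup.card_monoidHom_of_hasEnoughRootsOfUnity U ℂ]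
  refine Nat.card_le_card_of_injective (fun f => ι.comp f) fun f f' h => MonoidHom.ext fun x => hι ?_
  exact DFunLike.congr_fun h x

variable {U : Type u} {M : Type v} [CommGroup U] [CommGroup M]

/-- The orthogonal of a subgroup. -/
def perp (β : U →* U →* M) (X : Subgroup U) : Subgroup U where
  carrier := {y | ∀ x ∈ X, β y x = 1}
  one_mem' := fun x _ => by simp
  mul_mem' := fun {a b} ha hb x hx => by simp [ha x hx, hb x hx]
  inv_mem' := fun {a} ha x hx => by simp [ha x hx]

lemma card_le_mul_perp [Finite U] [Finite M] [IsCyclic M] (β : U →* U →* M) (X : Subgroup U) :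
    Nat.card U ≤ Nat.card X * Nat.card (perp β X) := by
  let f : U →* (X →* M) := (MonoidHom.compHom' X.subtype).comp β
  have hk : f.ker = perp β X := by
    ext y
    rw [MonoidHom.mem_ker]
    exact ⟨fun h x hx => DFunLike.congr_fun h ⟨x, hx⟩, fun h => MonoidHom.ext fun x => h x x.2⟩
  rw [← hk, mul_comm, ← f.ker.card_mul_index]
  refine Nat.mul_le_mul_left _ ?_
  rw [Subgroup.index_ker]
  have : Finite (X →* M) := Finite.of_injective _ DFunLike.coe_injective
  exact (Nat.card_le_card_of_injective _ Subtype.val_injective).trans (card_hom_le X M)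

/-- A finite abelian group with a non-degenerate alternating cyclic pairing has square order. -/
theorem isSquare_card_of_alt [Finite M] [IsCyclic M] :
    ∀ (n : ℕ) (U : Type u) [CommGroup U] [Finite U] (β : U →* U →* M), Nat.card U = n →
      (∀ x, β x x = 1) → (∀ x, (∀ y, β x y = 1) → x = 1) → IsSquare n := by
  intro n
  induction n using Nat.strong_induction_on with
  | _ n ih =>
    intro U _ _ β hn halt hnd
    have hskew : ∀ x y, β x y * β y x = 1 := fun x y => by
      simpa [halt x, halt y] using halt (x * y)
    by_cases h1 : n = 1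
    · exact ⟨1, by rw [h1]⟩
    obtain ⟨r, hr, hrd⟩ := Nat.exists_prime_and_dvd (show Nat.card U ≠ 1 by omega)
    haveI := Fact.mk hr
    obtain ⟨x, hx⟩ := exists_prime_orderOf_dvd_card' r hrd
    have hxr : x ^ r = 1 := by rw [← hx]; exact pow_orderOf_eq_one x
    set f : U →* M := β x
    set K := f.ker
    have hM : Nat.card {m : M // m ^ r = 1} ≤ r := by
      classical
      have : Fintype M := Fintype.ofFinite M
      rw [Nat.card_eq_fintype_card, Fintype.card_subtype]
      exact IsCyclic.card_pow_eq_one_le hr.pos
    have hidx : K.index = r := by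
      have hle : K.index ≤ r := by
        rw [Subgroup.index_ker]
        refine le_trans (Nat.card_le_card_of_injective
          (fun m : f.range => (⟨m.1, ?_⟩ : {m : M // m ^ r = 1}))
          fun a b h => Subtype.ext (congrArg (fun z : {m : M // m ^ r = 1} => z.1) h)) hM
        obtain ⟨y, hy⟩ := m.2
        rw [← hy]
        show (β x y) ^ r = 1
        rw [← MonoidHom.pow_apply, ← map_pow, hxr, map_one, MonoidHom.one_apply]
      have hdvd : K.index ∣ Nat.card U := Subgroup.index_dvd_card _
      have hne : K.index ≠ 1 := by
        intro h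
        rw [Subgroup.index_eq_one] at h
        have : x = 1 := hnd x fun y => by
          have : y ∈ K := by rw [h]; trivial
          exact this
        rw [this, orderOf_one] at hx
        exact hr.ne_one hx.symm
      have hpow : ∀ m : f.range, m ^ r = 1 := fun m => by
        obtain ⟨y, hy⟩ := m.2
        refine Subtype.ext ?_
        show (m.1) ^ r = 1
        rw [← hy]
        show (β x y) ^ r = 1
        rw [← MonoidHom.pow_apply, ← map_pow, hxr, map_one, MonoidHom.one_apply]
      obtain ⟨k, hk⟩ := (IsPGroup.iff_card (p := r)).mp (fun m => ⟨1, by rw [pow_one]; exact hpow m⟩ :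
        IsPGroup r f.range)
      rw [Subgroup.index_ker] at hle hne ⊢
      rw [hk] at hle hne ⊢
      rcases Nat.lt_or_ge k 2 with h | h
      · interval_cases k
        · simp at hne
        · rw [pow_one]
      · exfalso
        have : r ^ 2 ≤ r ^ k := Nat.pow_le_pow_right hr.pos h
        nlinarith [hr.two_le]
    have hxK : Subgroup.zpowers x ≤ K := by
      rw [Subgroup.zpowers_le]
      exact halt x
    set N := (Subgroup.zpowers x).subgroupOf K
    -- the radical of the restriction
    have hrad : ∀ z ∈ K, (∀ y ∈ K, β z y = 1) → z ∈ Subgroup.zpowers x := by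
      intro z _ hz
      by_contra hnot
      obtain ⟨y0, hy0⟩ : ∃ y0, y0 ∉ K := by
        by_contra h
        push Not at h
        have : K.index = 1 := Subgroup.index_eq_one.mpr (eq_top_iff.mpr fun y _ => h y)
        rw [hidx] at this
        exact hr.ne_one this
      have hu : (β z y0) ^ r = 1 := by
        have hy : y0 ^ r ∈ K := by rw [← hidx]; exact Subgroup.pow_index_mem K y0
        rw [← map_pow]
        exact hz _ hy
      have hv : (β x y0) ^ r = 1 := by
        rw [← MonoidHom.pow_apply, ← map_pow, hxr, map_one, MonoidHom.one_apply]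
      have hvo : orderOf (β x y0) = r := orderOf_eq_prime hv hy0
      have hmem : β z y0 ∈ Subgroup.zpowers (β x y0) := by
        classical
        have hset : ((Subgroup.zpowers (β x y0) : Subgroup M) : Set M) = {m | m ^ r = 1} := by
          refine Set.eq_of_subset_of_ncard_le ?_ ?_ (Set.toFinite _)
          · intro m hm
            obtain ⟨i, rfl⟩ := hm
            show (β x y0 ^ i) ^ r = 1
            rw [← zpow_natCast, ← zpow_mul, mul_comm, zpow_mul, zpow_natCast, hv, one_zpow]
          · rw [← Nat.card_coe_set_eq, ← Nat.card_coe_set_eq]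
            exact hM.trans (le_of_eq (by rw [← hvo, ← Nat.card_zpowers]; rfl))
        have : β z y0 ∈ ((Subgroup.zpowers (β x y0) : Subgroup M) : Set M) := by
          rw [hset]; exact hu
        exact this
      obtain ⟨i, hi⟩ := hmem
      refine hnot ⟨i, ?_⟩
      have hall : ∀ y, β (z * (x ^ i)⁻¹) y = 1 := by
        have hker : ∀ y ∈ K, β (z * (x ^ i)⁻¹) y = 1 := fun y hy => by
          have h2 : β x y = 1 := hy
          simp [map_mul, map_inv, map_zpow, hz y hy, h2]
        have hy0' : β (z * (x ^ i)⁻¹) y0 = 1 := by
          rw [map_mul, MonoidHom.mul_apply, map_inv, MonoidHom.inv_apply, map_zpow, MonoidHom.zpow_apply]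
          simp only at hi
          rw [hi, mul_inv_cancel]
        intro y
        set g := β (z * (x ^ i)⁻¹)
        have hle : K ⊔ Subgroup.zpowers y0 ≤ g.ker :=
          sup_le hker (Subgroup.zpowers_le.mpr hy0')
        have htop : K ⊔ Subgroup.zpowers y0 = ⊤ := by
          have hdvd := Subgroup.index_dvd_of_le (le_sup_left : K ≤ K ⊔ Subgroup.zpowers y0)
          rw [hidx, Nat.dvd_prime hr] at hdvd
          rcases hdvd with h | h
          · exact Subgroup.index_eq_one.mp h
          · exfalso
            have hkeq := Subgroup.relIndex_mul_index (le_sup_left : K ≤ K ⊔ Subgroup.zpowers y0)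
            rw [hidx, h] at hkeq
            have h1 : K.relIndex (K ⊔ Subgroup.zpowers y0) = 1 := by nlinarith [hr.pos]
            rw [Subgroup.relIndex_eq_one] at h1
            exact hy0 (h1 (Subgroup.mem_sup_right (Subgroup.mem_zpowers y0)))
        exact hle (by rw [htop]; trivial)
      exact (mul_inv_eq_one.mp (hnd _ hall)).symm
    -- the pairing on the quotient
    have hβx : ∀ k ∈ K, β k x = 1 := fun k hk => by
      have := hskew x k
      rwa [show β x k = 1 from hk, one_mul] at this
    let β1 : K →* (K ⧸ N) →* M :=
      { toFun := fun a => QuotientGroup.lift N ((β a).comp K.subtype) (fun b hb => by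
          rw [Subgroup.mem_subgroupOf] at hb
          obtain ⟨i, hi⟩ := hb
          show β a b = 1
          rw [← hi, map_zpow, hβx a a.2, one_zpow])
        map_one' := by
          ext b
          simp
        map_mul' := fun a c => by
          ext b
          simp }
    let β' : (K ⧸ N) →* (K ⧸ N) →* M := QuotientGroup.lift N β1 (fun a ha => by
      rw [Subgroup.mem_subgroupOf] at ha
      obtain ⟨i, hi⟩ := ha
      rw [MonoidHom.mem_ker]
      ext b
      show β (a : U) (b : U) = 1
      rw [← hi, map_zpow, MonoidHom.zpow_apply, show β x b = 1 from b.2, one_zpow])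
    have hcK : Nat.card K * r = Nat.card U := by rw [← hidx]; exact K.card_mul_index
    have hcN : Nat.card N = r := by
      rw [Nat.card_congr (Subgroup.subgroupOfEquivOfLe hxK).toEquiv, Nat.card_zpowers, hx]
    have hcQ : Nat.card (K ⧸ N) * r = Nat.card K := by
      rw [← hcN]; exact (Subgroup.card_eq_card_quotient_mul_card_subgroup N).symm
    have hlt : Nat.card (K ⧸ N) < n := by
      have h1 := hr.two_le
      have h2 : 0 < Nat.card (K ⧸ N) := Nat.card_pos
      rw [← hn, ← hcK, ← hcQ]
      calc Nat.card (K ⧸ N) < Nat.card (K ⧸ N) * (r * r) := lt_mul_of_one_lt_right h2 (by nlinarith)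
        _ = _ := by ring
    obtain ⟨s, hs⟩ := ih _ hlt (K ⧸ N) β' rfl
      (fun a => by
        induction a using QuotientGroup.induction_on with
        | H a => exact halt (a : U))
      (fun a ha => by
        induction a using QuotientGroup.induction_on with
        | H a =>
          rw [QuotientGroup.eq_one_iff, Subgroup.mem_subgroupOf]
          exact hrad a a.2 fun y hy => ha (QuotientGroup.mk ⟨y, hy⟩))
    exact ⟨s * r, by rw [← hn, ← hcK, ← hcQ, hs]; ring⟩

end CfsgLib.OddBase
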