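import Cfsg.Agent.OddBase.Quotient

/-!
Structure of an irreducible soluble group of odd order all of whose normal abelian subgroups span
fields: orders and fixed-space sizes.
-/

set_option autoImplicit false
set_option linter.style.haveILetI false
set_option linter.unusedSectionVars false

universe u

namespace CfsgLib.OddBase

open scoped commutatorElement

variable {V : Type u} [AddCommGroup V]

/-- Every normal abelian subgroup spans a field. -/
def AllFields (A : Subgroup (Aut V)) : Prop :=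
  ∀ B : Subgroup (Aut V), NormSub A B → (∀ a ∈ B, ∀ b ∈ B, a * b = b * a) →
    ∀ x ∈ spanRing B, x ≠ 0 → ∃ y ∈ spanRing B, x * y = 1

/-- The fixed vectors of an automorphism. -/
def fixA (g : Aut V) : AddSubgroup V := fixOf (g : AddMonoid.End V)

lemma mem_fixA {g : Aut V} {v : V} : v ∈ fixA g ↔ g • v = v := Iff.rfl

lemma card_fix_sq [Finite V] (x y : Aut V) :
    Nat.card (fixA x) ^ 2 ≤ Nat.card V * Nat.card (fixA ⁅x, y⁆) := by
  let f : fixA x × fixA x →+ V :=
    { toFun := fun p => (p.1 : V) + y • (p.2 : V)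
      map_zero' := by simp
      map_add' := fun p q => by
        simp only [Prod.fst_add, Prod.snd_add, AddSubgroup.coe_add, smul_add]; abel }
  rw [sq, ← Nat.card_prod, ← f.ker.card_mul_index, mul_comm (Nat.card V)]
  refine Nat.mul_le_mul ?_ ?_
  · refine Nat.card_le_card_of_injective (fun p => (⟨(p.1.1 : V), ?_⟩ : fixA ⁅x, y⁆)) fun p q h => ?_
    · have h0 : (p.1.1 : V) + y • (p.1.2 : V) = 0 := p.2
      have h1 : x • (p.1.1 : V) = p.1.1 := mem_fixA.mp p.1.1.2
      have h2 : x • (p.1.2 : V) = p.1.2 := mem_fixA.mp p.1.2.2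
      have e : (p.1.1 : V) = -(y • (p.1.2 : V)) := eq_neg_of_add_eq_zero_left h0
      rw [mem_fixA, commutatorElement_def, mul_smul, mul_smul, mul_smul]
      have e1 : y⁻¹ • (p.1.1 : V) = -(p.1.2 : V) := by rw [e, smul_neg, inv_smul_smul]
      rw [e1, smul_neg, inv_smul_eq_iff.mpr h2.symm, smul_neg, ← e, h1]
    · have hp : (p.1.1 : V) + y • (p.1.2 : V) = 0 := p.2
      have hq : (q.1.1 : V) + y • (q.1.2 : V) = 0 := q.2
      have h' : (p.1.1 : V) = q.1.1 := congrArg (fun z : fixA ⁅x, y⁆ => (z : V)) h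
      rw [h', ← hq] at hp
      exact Subtype.ext (Prod.ext (Subtype.ext h') (Subtype.ext (MulAction.injective y (add_left_cancel hp))))
  · rw [AddSubgroup.index_ker]
    exact Nat.card_le_card_of_injective _ Subtype.val_injective

/-- The field spanned by a normal abelian subgroup. -/
@[reducible] noncomputable def fieldOf {B : Subgroup (Aut V)} [Nontrivial V]
    (hc : ∀ a ∈ B, ∀ b ∈ B, a * b = b * a)
    (hf : ∀ x ∈ spanRing B, x ≠ 0 → ∃ y ∈ spanRing B, x * y = 1) : Field (spanRing B) :=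
  letI : DecidableEq (spanRing B) := Classical.decEq _
  { (inferInstance : Ring (spanRing B)) with
    mul_comm := fun x y => Subtype.ext (spanRing_comm hc x.2 y.2)
    exists_pair_ne := ⟨0, 1, fun h => by
      obtain ⟨v, hv⟩ := exists_ne (0 : V)
      have := DFunLike.congr_fun (congrArg (fun z : spanRing B => (z : AddMonoid.End V)) h) v
      change (0 : V) = v at this
      exact hv this.symm⟩
    inv := fun x => if h : x = 0 then 0 else
      ⟨(hf x x.2 fun e => h (Subtype.ext e)).choose, (hf x x.2 fun e => h (Subtype.ext e)).choose_spec.1⟩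
    mul_inv_cancel := fun x hx => by
      show x * (if h : x = 0 then 0 else _) = 1
      rw [dif_neg hx]
      exact Subtype.ext (hf x x.2 fun e => hx (Subtype.ext e)).choose_spec.2
    inv_zero := dif_pos rfl
    qsmul := _
    nnqsmul := _ }

/-- The multiplicative map to the spanned ring. -/
def toRing (B : Subgroup (Aut V)) : B →* spanRing B where
  toFun b := ⟨((b : Aut V) : AddMonoid.End V), coe_mem_spanRing b.2⟩
  map_one' := rfl
  map_mul' _ _ := rfl

lemma toRing_injective (B : Subgroup (Aut V)) : Function.Injective (toRing B) := fun _ _ h =>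
  Subtype.ext (Units.ext (congrArg Subtype.val h))

lemma fpf_of_field {B : Subgroup (Aut V)} (hc : ∀ a ∈ B, ∀ b ∈ B, a * b = b * a)
    (hf : ∀ x ∈ spanRing B, x ≠ 0 → ∃ y ∈ spanRing B, x * y = 1)
    {a : Aut V} (ha : a ∈ B) (ha1 : a ≠ 1) {v : V} (hv : a • v = v) : v = 0 := by
  have hx : (a : AddMonoid.End V) - 1 ∈ spanRing B :=
    Subring.sub_mem _ (coe_mem_spanRing ha) (Subring.one_mem _)
  obtain ⟨y, hy, hxy⟩ := hf _ hx (fun h => ha1 (Units.ext (sub_eq_zero.mp h)))
  rw [spanRing_comm hc hx hy] at hxy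
  have h1 := DFunLike.congr_fun hxy v
  change y (((a : AddMonoid.End V) - 1) v) = v at h1
  have h2 : ((a : AddMonoid.End V) - 1) v = 0 := sub_eq_zero.mpr hv
  rw [h2, map_zero] at h1
  exact h1.symm

lemma comm_spanRing {B : Subgroup (Aut V)} {c : Aut V} (hc : ∀ b ∈ B, c * b = b * c)
    {x : AddMonoid.End V} (hx : x ∈ spanRing B) : (c : AddMonoid.End V) * x = x * c := by
  have : spanRing B ≤ Subring.centralizer {(c : AddMonoid.End V)} := Subring.closure_le.mpr (by
    rintro _ ⟨b, hb, rfl⟩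
    refine Subring.mem_centralizer_iff.mpr ?_
    rintro _ rfl
    simp only [← Units.val_mul, hc b hb])
  exact Subring.mem_centralizer_iff.mp (this hx) _ rfl

/-- The maximal class two setup. -/
lemma exists_setup [Finite V] [Nontrivial V] {A : Subgroup (Aut V)} (hsol : Group.IsSolvable A)
    (hfield : AllFields A) :
    ∃ S : Setup (Aut V), S.A = A ∧ NormSub A S.A0 ∧ S.C = A ⊓ Subgroup.centralizer (S.A0 : Set (Aut V)) := by
  classical
  obtain ⟨A0, -, hmax⟩ := Finite.exists_le_maximal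
    (p := fun B : Subgroup (Aut V) => NormSub A B ∧ ∀ a ∈ B, ∀ b ∈ B, a * b = b * a) (a := ⊥)
    ⟨⟨bot_le, fun g _ a ha => by simp [Subgroup.mem_bot.mp ha]⟩,
      fun a ha b hb => by simp [Subgroup.mem_bot.mp ha, Subgroup.mem_bot.mp hb]⟩
  obtain ⟨hAn, hAc⟩ := hmax.prop
  set C := A ⊓ Subgroup.centralizer (A0 : Set (Aut V)) with hC
  have hcen : ∀ c ∈ C, ∀ a ∈ A0, c * a = a * c := fun c hc a ha =>
    (Subgroup.mem_centralizer_iff.mp hc.2 a ha).symm
  have hCn : ∀ g ∈ A, ∀ c ∈ C, g * c * g⁻¹ ∈ C := fun g hg c hc =>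
    ⟨A.mul_mem (A.mul_mem hg hc.1) (A.inv_mem hg), Subgroup.mem_centralizer_iff.mpr fun a ha => by
      have h1 : g⁻¹ * a * g ∈ A0 := by simpa using hAn.2 g⁻¹ (A.inv_mem hg) a ha
      have h2 := hcen c hc _ h1
      calc a * (g * c * g⁻¹) = g * ((g⁻¹ * a * g) * c) * g⁻¹ := by group
        _ = g * (c * (g⁻¹ * a * g)) * g⁻¹ := by rw [h2]
        _ = g * c * g⁻¹ * a := by group⟩
  have hA0C : A0 ≤ C := fun a ha =>
    ⟨hAn.1 ha, Subgroup.mem_centralizer_iff.mpr fun b hb => hAc b hb a ha⟩
  obtain ⟨E, -, hEmax⟩ := Finite.exists_le_maximal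
    (p := fun E : Subgroup (Aut V) => (∀ g ∈ A, ∀ x ∈ E, g * x * g⁻¹ ∈ E) ∧ A0 ≤ E ∧ E ≤ C ∧
      ∀ x ∈ E, ∀ y ∈ E, ⁅x, y⁆ ∈ A0) (a := A0)
    ⟨hAn.2, le_rfl, hA0C, fun x hx y hy =>
      A0.mul_mem (A0.mul_mem (A0.mul_mem hx hy) (A0.inv_mem hx)) (A0.inv_mem hy)⟩
  obtain ⟨hEn, hA0E, hEC, hEcomm⟩ := hEmax.prop
  have hdle : ∀ c ∈ C, (∀ y ∈ E, c * y = y * c) → c ∈ A0 := by
    set D := C ⊓ Subgroup.centralizer (E : Set (Aut V)) with hD
    suffices hDA : D ≤ A0 from fun c hc h =>
      hDA ⟨hc, Subgroup.mem_centralizer_iff.mpr fun y hy => (h y hy).symm⟩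
    have hDn : ∀ g ∈ A, ∀ c ∈ D, g * c * g⁻¹ ∈ D := fun g hg c hc =>
      ⟨hCn g hg c hc.1, Subgroup.mem_centralizer_iff.mpr fun a ha => by
        have h1 : g⁻¹ * a * g ∈ E := by simpa using hEn g⁻¹ (A.inv_mem hg) a ha
        have h2 := Subgroup.mem_centralizer_iff.mp hc.2 _ h1
        calc a * (g * c * g⁻¹) = g * ((g⁻¹ * a * g) * c) * g⁻¹ := by group
          _ = g * (c * (g⁻¹ * a * g)) * g⁻¹ := by rw [h2]
          _ = g * c * g⁻¹ * a := by group⟩
    by_contra hDA
    obtain ⟨k0, hk0⟩ := hsol.solvable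
    set B : ℕ → Subgroup (Aut V) := fun k => (derivedSeries A k).map A.subtype ⊓ D with hB
    have hex : ∃ k, B k ≤ A0 := ⟨k0, by simp [hB, hk0]⟩
    have hf0 : Nat.find hex ≠ 0 := by
      intro h
      have := Nat.find_spec hex
      rw [h] at this
      refine hDA fun d hd => this ⟨?_, hd⟩
      exact Subgroup.mem_map.mpr ⟨⟨d, hd.1.1⟩, by simp, rfl⟩
    obtain ⟨j, hj⟩ := Nat.exists_eq_succ_of_ne_zero hf0
    have hBj : ¬ B j ≤ A0 := Nat.find_min hex (by omega)
    have hBc : ∀ x ∈ B j, ∀ y ∈ B j, ⁅x, y⁆ ∈ A0 := by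
      intro x hx y hy
      have hspec := Nat.find_spec hex
      rw [hj] at hspec
      refine hspec ⟨?_, ?_⟩
      · show _ ∈ Subgroup.map A.subtype (derivedSeries A (j + 1))
        rw [derivedSeries_succ, Subgroup.map_commutator]
        exact Subgroup.commutator_mem_commutator hx.1 hy.1
      · exact D.mul_mem (D.mul_mem (D.mul_mem hx.2 hy.2) (D.inv_mem hx.2)) (D.inv_mem hy.2)
    have hBn : ∀ g ∈ A, ∀ b ∈ B j, g * b * g⁻¹ ∈ B j := fun g hg b hb => by
      refine ⟨?_, hDn g hg b hb.2⟩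
      obtain ⟨b', hb', rfl⟩ := Subgroup.mem_map.mp hb.1
      exact Subgroup.mem_map.mpr ⟨⟨g, hg⟩ * b' * ⟨g, hg⟩⁻¹,
        (derivedSeries_normal A j).conj_mem _ hb' _, rfl⟩
    have hcm : ∀ b ∈ D, ∀ e ∈ E, e * b = b * e := fun b hb e he =>
      Subgroup.mem_centralizer_iff.mp hb.2 e he
    let P : Subgroup (Aut V) :=
      { carrier := {x | ∃ b ∈ B j, ∃ e ∈ E, x = b * e}
        mul_mem' := by
          rintro _ _ ⟨b, hb, e, he, rfl⟩ ⟨b', hb', e', he', rfl⟩
          refine ⟨b * b', (B j).mul_mem hb hb', e * e', E.mul_mem he he', ?_⟩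
          rw [mul_assoc, ← mul_assoc e, hcm b' hb'.2 e he]; group
        one_mem' := ⟨1, (B j).one_mem, 1, E.one_mem, by simp⟩
        inv_mem' := by
          rintro _ ⟨b, hb, e, he, rfl⟩
          refine ⟨b⁻¹, (B j).inv_mem hb, e⁻¹, E.inv_mem he, ?_⟩
          rw [_root_.mul_inv_rev, hcm b⁻¹ (D.inv_mem hb.2) e⁻¹ (E.inv_mem he)] }
    have hPle : P ≤ E := by
      refine hEmax.2 ⟨?_, ?_, ?_, ?_⟩ (fun e he => ⟨1, (B j).one_mem, e, he, (one_mul e).symm⟩)
      · rintro g hg _ ⟨b, hb, e, he, rfl⟩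
        exact ⟨g * b * g⁻¹, hBn g hg b hb, g * e * g⁻¹, hEn g hg e he, by group⟩
      · exact fun a ha => ⟨1, (B j).one_mem, a, hA0E ha, (one_mul a).symm⟩
      · rintro _ ⟨b, hb, e, he, rfl⟩; exact C.mul_mem hb.2.1 (hEC he)
      · rintro _ ⟨b, hb, e, he, rfl⟩ _ ⟨b', hb', e', he', rfl⟩
        have key : ⁅b * e, b' * e'⁆ = ⁅b, b'⁆ * ⁅e, e'⁆ := by
          have c1 := hcm b' hb'.2 e he
          have c2 := hcm b hb.2 e' he'
          have c3 := hcm b hb.2 e he
          have c4 := hcm b' hb'.2 e' he'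
          have ci1 : e * b'⁻¹ = b'⁻¹ * e := (Commute.inv_right (c1 : Commute e b')).eq
          have ci2 : e' * b⁻¹ = b⁻¹ * e' := (Commute.inv_right (c2 : Commute e' b)).eq
          have ci3 : e⁻¹ * b⁻¹ = b⁻¹ * e⁻¹ := (Commute.inv_inv (c3 : Commute e b)).eq
          have ci4 : e'⁻¹ * b'⁻¹ = b'⁻¹ * e'⁻¹ := (Commute.inv_inv (c4 : Commute e' b')).eq
          simp only [commutatorElement_def, mul_inv_rev]
          calc b * e * (b' * e') * (e⁻¹ * b⁻¹) * (e'⁻¹ * b'⁻¹)
              = b * (e * b') * e' * (b⁻¹ * e⁻¹) * (b'⁻¹ * e'⁻¹) := by rw [ci3, ci4]; group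
            _ = b * b' * e * (e' * b⁻¹) * (e⁻¹ * b'⁻¹) * e'⁻¹ := by rw [c1]; group
            _ = b * b' * (e * b⁻¹) * e' * (b'⁻¹ * e⁻¹) * e'⁻¹ := by
                rw [ci2, (Commute.inv_inv (c1 : Commute e b')).eq]; group
            _ = b * b' * (b⁻¹ * e) * (e' * b'⁻¹) * e⁻¹ * e'⁻¹ := by
                rw [(Commute.inv_right (c3 : Commute e b)).eq]; group
            _ = b * b' * b⁻¹ * (e * b'⁻¹) * e' * e⁻¹ * e'⁻¹ := by
                rw [(Commute.inv_right (c4 : Commute e' b')).eq]; group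
            _ = b * b' * b⁻¹ * b'⁻¹ * (e * e' * e⁻¹ * e'⁻¹) := by rw [ci1]; group
        rw [key]
        exact A0.mul_mem (hBc b hb b' hb') (hEcomm e he e' he')
    have hBE : B j ≤ E := fun b hb => hPle ⟨b, hb, 1, E.one_mem, (mul_one b).symm⟩
    let Q : Subgroup (Aut V) :=
      { carrier := {x | ∃ b ∈ B j, ∃ a ∈ A0, x = b * a}
        mul_mem' := by
          rintro _ _ ⟨b, hb, a, ha, rfl⟩ ⟨b', hb', a', ha', rfl⟩
          refine ⟨b * b', (B j).mul_mem hb hb', a * a', A0.mul_mem ha ha', ?_⟩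
          rw [mul_assoc, ← mul_assoc a, hcm b' hb'.2 a (hA0E ha)]; group
        one_mem' := ⟨1, (B j).one_mem, 1, A0.one_mem, by simp⟩
        inv_mem' := by
          rintro _ ⟨b, hb, a, ha, rfl⟩
          refine ⟨b⁻¹, (B j).inv_mem hb, a⁻¹, A0.inv_mem ha, ?_⟩
          rw [_root_.mul_inv_rev, hcm b⁻¹ (D.inv_mem hb.2) a⁻¹ (hA0E (A0.inv_mem ha))] }
    have hQle : Q ≤ A0 := by
      refine hmax.2 ⟨⟨?_, ?_⟩, ?_⟩ (fun a ha => ⟨1, (B j).one_mem, a, ha, (one_mul a).symm⟩)
      · rintro _ ⟨b, hb, a, ha, rfl⟩; exact A.mul_mem hb.2.1.1 (hAn.1 ha)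
      · rintro g hg _ ⟨b, hb, a, ha, rfl⟩
        exact ⟨g * b * g⁻¹, hBn g hg b hb, g * a * g⁻¹, hAn.2 g hg a ha, by group⟩
      · rintro _ ⟨b, hb, a, ha, rfl⟩ _ ⟨b', hb', a', ha', rfl⟩
        have c1 : b * b' = b' * b := hcm b' hb'.2 b (hBE hb)
        have c2 : a * b' = b' * a := hcm b' hb'.2 a (hA0E ha)
        have c3 : a' * b = b * a' := hcm b hb.2 a' (hA0E ha')
        calc b * a * (b' * a') = b * (a * b') * a' := by group
          _ = (b * b') * (a * a') := by rw [c2]; group
          _ = (b' * b) * (a' * a) := by rw [c1, hAc a ha a' ha']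
          _ = b' * (a' * b) * a := by rw [c3]; group
          _ = b' * a' * (b * a) := by group
    exact hBj fun b hb => hQle ⟨b, hb, 1, A0.one_mem, (mul_one b).symm⟩
  letI : Field (spanRing A0) := fieldOf hAc (hfield A0 hAn hAc)
  have hcyc : IsCyclic A0 := isCyclic_of_subgroup_isDomain (toRing A0) (toRing_injective A0)
  refine ⟨⟨A, A0, C, E, hA0E, hEC, inf_le_left, hcen, hAn.2, hEn, hEcomm, hcyc, hdle,
    fun B hB1 hB2 hBn hBc => hmax.2 ⟨⟨hB2.trans (hEC.trans inf_le_left), hBn⟩, hBc⟩ hB1⟩, rfl, hAn, rfl⟩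

/-- The numerical data of the primitive case. -/
structure PrimData (A : Subgroup (Aut V)) where
  S : Setup (Aut V)
  hA : S.A = A
  q : ℕ
  m : ℕ
  d : ℕ
  p : ℕ
  f : ℕ
  hp : p.Prime
  hq : q = p ^ f
  hd : d ∣ f
  hf : 1 ≤ f
  hm : 1 ≤ m
  hV : q ^ m = Nat.card V
  card_A : Nat.card A = Nat.card S.C * d
  a0_dvd : Nat.card S.A0 ∣ q - 1
  u_le : Nat.card S.U ≤ m * m
  fpf : ∀ a ∈ S.A0, a ≠ 1 → ∀ v : V, a • v = v → v = 0
  fix_out : ∀ g ∈ A, g ∉ S.C → Nat.card (fixA g) ^ 2 ≤ Nat.card V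
  fix_E : ∀ g ∈ S.E, g ≠ 1 → Nat.card (fixA g) ^ 2 ≤ Nat.card V
  fix_C : ∀ g ∈ S.C, g ≠ 1 → Nat.card (fixA g) ≤ q ^ (3 * m / 4)

lemma fixA_eq_bot_of_fpf {a : Aut V} (h : ∀ v : V, a • v = v → v = 0) : fixA a = ⊥ :=
  (AddSubgroup.eq_bot_iff_forall _).mpr fun v hv => h v hv

set_option maxHeartbeats 1000000 in
/-- The data exist, with `C` the centralizer of `A₀` and `q` the order of the field it spans. -/
theorem exists_primData_span [Finite V] [Nontrivial V] {A : Subgroup (Aut V)}
    (hsol : Group.IsSolvable A) (hfield : AllFields A) :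
    ∃ D : PrimData A, D.S.C = A ⊓ Subgroup.centralizer (D.S.A0 : Set (Aut V)) ∧
      D.q = Nat.card (spanRing D.S.A0) := by
  classical
  obtain ⟨S, hSA, hAn, hC⟩ := exists_setup hsol hfield
  subst hSA
  have hAc : ∀ a ∈ S.A0, ∀ b ∈ S.A0, a * b = b * a := fun a ha b hb =>
    S.cen a (S.e_le (S.a0_le ha)) b hb
  have hf := hfield S.A0 hAn hAc
  set L := spanRing S.A0 with hLdef
  letI instF : Field L := fieldOf hAc hf
  have : Fintype L := Fintype.ofFinite _
  have : Fintype V := Fintype.ofFinite V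
  letI : Module L V := inferInstance
  obtain ⟨p, hchar⟩ := CharP.exists L
  haveI := hchar
  have hp : p.Prime := CharP.char_is_prime L p
  haveI := Fact.mk hp
  letI : Algebra (ZMod p) L := ZMod.algebra L p
  set f := Module.finrank (ZMod p) L
  have hf1 : 1 ≤ f := Module.finrank_pos
  have hq : Nat.card L = p ^ f := by
    rw [Module.natCard_eq_pow_finrank (K := ZMod p), Nat.card_zmod]
  set m := Module.finrank L V
  have hV : Nat.card L ^ m = Nat.card V := (Module.natCard_eq_pow_finrank (K := L) (V := V)).symm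
  have hm : 1 ≤ m := Module.finrank_pos
  -- action on the field
  let κ : S.A →* (L ≃+* L) :=
    { toFun := fun g =>
        { toFun := fun x => ⟨cj (g : Aut V) x, spanRing_cj hAn g.2 x.2⟩
          invFun := fun x => ⟨cj (g : Aut V)⁻¹ x, spanRing_cj hAn (S.A.inv_mem g.2) x.2⟩
          left_inv := fun x => Subtype.ext (by simp [cj_cj])
          right_inv := fun x => Subtype.ext (by simp [cj_cj])
          map_mul' := fun x y => Subtype.ext (map_mul (cj (g : Aut V)) (x : AddMonoid.End V) y)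
          map_add' := fun x y => Subtype.ext (map_add (cj (g : Aut V)) (x : AddMonoid.End V) y) }
      map_one' := RingEquiv.ext fun x => Subtype.ext (cj_one _)
      map_mul' := fun g h => RingEquiv.ext fun x => Subtype.ext (cj_cj _ _ _).symm }
  have hker : κ.ker = S.C.subgroupOf S.A := by
    ext g
    rw [MonoidHom.mem_ker, Subgroup.mem_subgroupOf]
    constructor
    · intro h
      rw [hC]
      refine ⟨g.2, Subgroup.mem_centralizer_iff.mpr fun a ha => ?_⟩
      have h1 := congrArg (fun e : L ≃+* L => ((e ⟨_, coe_mem_spanRing ha⟩ : L) : AddMonoid.End V)) h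
      change cj (g : Aut V) (a : AddMonoid.End V) = (a : AddMonoid.End V) at h1
      rw [cj_coe] at h1
      have h2 := Units.ext h1
      calc a * (g : Aut V) = ((g : Aut V) * a * (g : Aut V)⁻¹) * g := by rw [h2]
        _ = (g : Aut V) * a := by group
    · intro h
      refine RingEquiv.ext fun x => Subtype.ext ?_
      show ((g : Aut V) : AddMonoid.End V) * x * (((g : Aut V)⁻¹ : Aut V) : AddMonoid.End V) = x
      rw [comm_spanRing (S.cen _ h) x.2, mul_assoc, ← Units.val_mul, mul_inv_cancel, Units.val_one, mul_one]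
  have hcard_aut : Nat.card (L ≃+* L) = f := by
    have he : Nat.card (L ≃+* L) = Nat.card (L ≃ₐ[ZMod p] L) := by
      refine Nat.card_congr
        { toFun := fun e => AlgEquiv.ofRingEquiv (f := e) (fun z => ?_)
          invFun := fun e => e.toRingEquiv
          left_inv := fun e => RingEquiv.ext fun _ => rfl
          right_inv := fun e => AlgEquiv.ext fun _ => rfl }
      exact DFunLike.congr_fun (RingHom.ext_zmod (e.toRingHom.comp (algebraMap (ZMod p) L))
        (algebraMap (ZMod p) L)) z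
    rw [he]
    exact IsGalois.card_aut_eq_finrank (ZMod p) L
  have hlin : ∀ c ∈ S.C, ∀ (x : L) (v : V),
      c • ((x : AddMonoid.End V) v) = (x : AddMonoid.End V) (c • v) :=
    fun c hc x v => DFunLike.congr_fun (comm_spanRing (S.cen c hc) x.2) v
  -- independence of the cosets of `E` over `A₀`
  have hU : Nat.card S.U ≤ m * m := by
    haveI := S.cyc
    letI : Fintype S.U := Fintype.ofFinite _
    let rep : S.U → S.E := fun w => Quotient.out w
    have hrep : ∀ w, (QuotientGroup.mk (rep w) : S.U) = w := fun w => Quotient.out_eq' w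
    let lm : S.U → (V →ₗ[L] V) := fun w =>
      { toFun := fun v => ((rep w : S.E) : Aut V) • v
        map_add' := smul_add _
        map_smul' := fun x v => hlin _ (S.e_le (rep w).2) x v }
    have hli : LinearIndependent L lm := by
      rw [Fintype.linearIndependent_iff]
      intro c hc w0
      let lam : S.U → (S.U →* L) := fun w => (toRing S.A0).comp (S.beta.flip w)
      have hlam : Function.Injective lam := by
        intro w w' h
        have h1 : ∀ z, S.beta z w = S.beta z w' := fun z =>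
          toRing_injective _ (DFunLike.congr_fun h z)
        have h2 : ∀ z, S.beta (w * w'⁻¹) z = 1 := by
          intro z
          have hsk : ∀ x y : S.U, S.beta x y * S.beta y x = 1 := fun x y => by
            have := S.beta_alt (x * y)
            simpa [S.beta_alt x, S.beta_alt y] using this
          have h3 : S.beta z (w * w'⁻¹) = 1 := by rw [map_mul, map_inv, h1, mul_inv_cancel]
          have h4 := hsk (w * w'⁻¹) z
          rwa [h3, mul_one] at h4
        exact mul_inv_eq_one.mp (S.beta_nd _ h2)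
      have hconj : ∀ (z : S.U) (v : V), ∑ w, (lam w z * c w) • lm w v = 0 := by
        intro z v
        induction z using QuotientGroup.induction_on with
        | H z =>
          have h0 := LinearMap.congr_fun hc (((z : Aut V))⁻¹ • v)
          simp only [LinearMap.sum_apply, LinearMap.smul_apply, LinearMap.zero_apply] at h0
          have h1 := congrArg (fun u => (z : Aut V) • u) h0
          simp only [Finset.smul_sum, smul_zero] at h1
          rw [← h1]
          refine Finset.sum_congr rfl fun w _ => ?_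
          show ((lam w (QuotientGroup.mk z) * c w : L) : AddMonoid.End V) (((rep w : S.E) : Aut V) • v) =
            (z : Aut V) • ((c w : AddMonoid.End V) (((rep w : S.E) : Aut V) • (z : Aut V)⁻¹ • v))
          rw [hlin _ (S.e_le z.2) (c w), mul_comm]
          show (c w : AddMonoid.End V) ((lam w (QuotientGroup.mk z) : AddMonoid.End V) _) = _
          congr 1
          have h2 : ((S.beta (QuotientGroup.mk z) w : S.A0) : Aut V) = ⁅(z : Aut V), (rep w : Aut V)⁆ := by
            conv_lhs => rw [← hrep w]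
            rw [S.beta_apply]
          show ((S.beta (QuotientGroup.mk z) w : S.A0) : Aut V) • (((rep w : S.E) : Aut V) • v) = _
          rw [h2, ← mul_smul, ← mul_smul, ← mul_smul]
          congr 1
          simp only [commutatorElement_def]
          group
      by_contra hne
      obtain ⟨v0, hv0⟩ := exists_ne (0 : V)
      have hy : lm w0 v0 ≠ 0 := fun h => hv0 (MulAction.injective ((rep w0 : S.E) : Aut V)
        (show ((rep w0 : S.E) : Aut V) • v0 = ((rep w0 : S.E) : Aut V) • (0 : V) by rw [smul_zero]; exact h))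
      obtain ⟨φ, hφ⟩ : ∃ φ : Module.Dual L V, φ (lm w0 v0) ≠ 0 := by
        by_contra h
        push Not at h
        exact hy ((Module.forall_dual_apply_eq_zero_iff L _).mp h)
      have hind := (linearIndependent_monoidHom S.U L).comp lam hlam
      rw [Fintype.linearIndependent_iff] at hind
      have := hind (fun w => c w * φ (lm w v0)) (funext fun z => by
        simp only [Finset.sum_apply, Pi.smul_apply, Pi.zero_apply, smul_eq_mul, Function.comp_apply]
        have h := congrArg φ (hconj z v0)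
        rw [map_sum, map_zero] at h
        rw [← h]
        refine Finset.sum_congr rfl fun w _ => ?_
        rw [map_smul, smul_eq_mul]
        ring) w0
      rcases mul_eq_zero.mp this with h | h
      · exact hne h
      · exact hφ h
    have := hli.fintype_card_le_finrank
    rwa [← Nat.card_eq_fintype_card, Module.finrank_linearMap] at this
    
  have hfpf : ∀ a ∈ S.A0, a ≠ 1 → ∀ v : V, a • v = v → v = 0 := fun a ha ha1 v hv =>
    fpf_of_field hAc hf ha ha1 hv
  have hbot : ∀ a ∈ S.A0, a ≠ 1 → Nat.card (fixA a) = 1 := fun a ha ha1 => by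
    rw [fixA_eq_bot_of_fpf (hfpf a ha ha1)]; exact AddSubgroup.card_bot
  have hsq : ∀ g y : Aut V, g ∈ S.A → ⁅g, y⁆ ∈ S.A0 → ⁅g, y⁆ ≠ 1 →
      Nat.card (fixA g) ^ 2 ≤ Nat.card V := fun g y _ h1 h2 => by
    have := card_fix_sq g y
    rwa [hbot _ h1 h2, mul_one] at this
  have hfixE : ∀ g ∈ S.E, g ≠ 1 → Nat.card (fixA g) ^ 2 ≤ Nat.card V := by
    intro g hg hg1
    by_cases hgA : g ∈ S.A0
    · rw [hbot g hgA hg1]
      simp [Nat.one_le_iff_ne_zero, Nat.card_pos.ne']
    · obtain ⟨y, hy, hne⟩ : ∃ y ∈ S.E, g * y ≠ y * g := by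
        by_contra h
        push Not at h
        exact hgA (S.dle g (S.e_le hg) h)
      exact hsq g y (S.c_le (S.e_le hg)) (S.comm g hg y hy)
        (fun e => hne (commutatorElement_eq_one_iff_mul_comm.mp e))
  refine ⟨⟨S, rfl, Nat.card L, m, Nat.card κ.range, p, f, hp, hq, ?_, hf1, hm, hV, ?_, ?_, hU, hfpf,
    ?_, hfixE, ?_⟩, hC, rfl⟩
  · rw [← hcard_aut]; exact Subgroup.card_subgroup_dvd_card _
  · rw [← Subgroup.index_ker, hker, ← Nat.card_congr (Subgroup.subgroupOfEquivOfLe S.c_le).toEquiv]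
    exact (Subgroup.card_mul_index _).symm
  · rw [← Nat.card_units]
    exact Subgroup.card_dvd_of_injective (toRing S.A0).toHomUnits fun a b h =>
      toRing_injective _ (congrArg Units.val h)
  · intro g hg hgC
    obtain ⟨a, ha, hne⟩ : ∃ a ∈ S.A0, g * a ≠ a * g := by
      by_contra h
      push Not at h
      exact hgC (hC ▸ ⟨hg, Subgroup.mem_centralizer_iff.mpr fun a ha => (h a ha).symm⟩)
    refine hsq g a hg ?_ (fun e => hne (commutatorElement_eq_one_iff_mul_comm.mp e))
    rw [commutatorElement_def]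
    exact S.A0.mul_mem (S.a0_norm g hg a ha) (S.A0.inv_mem ha)
  · intro g hg hg1
    let W : Submodule L V :=
      { carrier := fixA g
        add_mem' := fun {a b} ha hb => (fixA g).add_mem ha hb
        zero_mem' := (fixA g).zero_mem
        smul_mem' := fun x v (hv : g • v = v) => show g • ((x : AddMonoid.End V) v) = _ by
          rw [hlin g hg x v, hv]; rfl }
    have hW : Nat.card (fixA g) = Nat.card L ^ Module.finrank L W :=
      Module.natCard_eq_pow_finrank (K := L) (V := W)
    rw [hW]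
    refine Nat.pow_le_pow_right Nat.card_pos ?_
    have h4 : Nat.card (fixA g) ^ 4 ≤ Nat.card V ^ 3 := by
      by_cases hgE : g ∈ S.E
      · calc Nat.card (fixA g) ^ 4 = (Nat.card (fixA g) ^ 2) ^ 2 := by ring
          _ ≤ Nat.card V ^ 2 := Nat.pow_le_pow_left (hfixE g hgE hg1) 2
          _ ≤ Nat.card V ^ 3 := Nat.pow_le_pow_right Nat.card_pos (by norm_num)
      · obtain ⟨y, hy, hne⟩ : ∃ y ∈ S.E, g * y ≠ y * g := by
          by_contra h
          push Not at h
          exact hgE (S.a0_le (S.dle g hg h))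
        have hcE : ⁅g, y⁆ ∈ S.E := by
          rw [commutatorElement_def]
          exact S.E.mul_mem (S.e_norm g (S.c_le hg) y hy) (S.E.inv_mem hy)
        have h1 := hfixE _ hcE (fun e => hne (commutatorElement_eq_one_iff_mul_comm.mp e))
        have h2 := card_fix_sq g y
        calc Nat.card (fixA g) ^ 4 = (Nat.card (fixA g) ^ 2) ^ 2 := by ring
          _ ≤ (Nat.card V * Nat.card (fixA ⁅g, y⁆)) ^ 2 := Nat.pow_le_pow_left h2 2
          _ = Nat.card V ^ 2 * Nat.card (fixA ⁅g, y⁆) ^ 2 := by ring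
          _ ≤ Nat.card V ^ 2 * Nat.card V := Nat.mul_le_mul_left _ h1
          _ = _ := by ring
    rw [hW, ← hV, ← pow_mul, ← pow_mul] at h4
    have := (Nat.pow_le_pow_iff_right (Finite.one_lt_card (α := L))).mp h4
    omega

/-- The data exist, with `C` the whole centraliser of the abelian normal subgroup. -/
theorem exists_primData_cent [Finite V] [Nontrivial V] {A : Subgroup (Aut V)}
    (hsol : Group.IsSolvable A) (hfield : AllFields A) :
    ∃ D : PrimData A, D.S.C = A ⊓ Subgroup.centralizer (D.S.A0 : Set (Aut V)) :=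
  let ⟨D, h, _⟩ := exists_primData_span hsol hfield
  ⟨D, h⟩

/-- The data exist. -/
theorem exists_primData [Finite V] [Nontrivial V] {A : Subgroup (Aut V)}
    (hsol : Group.IsSolvable A) (hfield : AllFields A) : Nonempty (PrimData A) :=
  let ⟨D, _⟩ := exists_primData_cent hsol hfield
  ⟨D⟩

end CfsgLib.OddBase
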