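import Cfsg.Agent.OddBase.Blocks
import Cfsg.Agent.OddBase.Pairing

/-!
The alternating pairing on `E/A₀` for a class two normal subgroup `E` over a maximal normal abelian
subgroup `A₀`, and its consequences.
-/

set_option autoImplicit false
set_option linter.style.haveILetI false
set_option linter.unusedSectionVars false

universe u

namespace CfsgLib.OddBase

open scoped commutatorElement

variable {G : Type u} [Group G]

/-- A maximal class two setup inside a group: `A₀ ≤ E ≤ C ≤ A`, with `C` centralising `A₀`. -/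
structure Setup (G : Type u) [Group G] where
  A : Subgroup G
  A0 : Subgroup G
  C : Subgroup G
  E : Subgroup G
  a0_le : A0 ≤ E
  e_le : E ≤ C
  c_le : C ≤ A
  cen : ∀ c ∈ C, ∀ a ∈ A0, c * a = a * c
  a0_norm : ∀ g ∈ A, ∀ a ∈ A0, g * a * g⁻¹ ∈ A0
  e_norm : ∀ g ∈ A, ∀ x ∈ E, g * x * g⁻¹ ∈ E
  comm : ∀ x ∈ E, ∀ y ∈ E, ⁅x, y⁆ ∈ A0
  cyc : IsCyclic A0
  dle : ∀ c ∈ C, (∀ y ∈ E, c * y = y * c) → c ∈ A0
  maxab : ∀ B : Subgroup G, A0 ≤ B → B ≤ E → (∀ g ∈ A, ∀ b ∈ B, g * b * g⁻¹ ∈ B) →
    (∀ a ∈ B, ∀ b ∈ B, a * b = b * a) → B ≤ A0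

lemma Setup.comm_mul_right (S : Setup G) {c y y' : G} (hy : y ∈ S.C) (hc' : ⁅c, y'⁆ ∈ S.A0) :
    ⁅c, y * y'⁆ = ⁅c, y⁆ * ⁅c, y'⁆ := by
  have h1 : ⁅c, y * y'⁆ = ⁅c, y⁆ * (y * ⁅c, y'⁆ * y⁻¹) := by
    simp only [commutatorElement_def]; group
  rw [h1, S.cen y hy _ hc', mul_inv_cancel_right]

lemma Setup.comm_mul_left (S : Setup G) {c c' y : G} (hc : c ∈ S.C) (h1 : ⁅c, y⁆ ∈ S.A0)
    (h2 : ⁅c', y⁆ ∈ S.A0) : ⁅c * c', y⁆ = ⁅c, y⁆ * ⁅c', y⁆ := by
  have h : ⁅c * c', y⁆ = (c * ⁅c', y⁆ * c⁻¹) * ⁅c, y⁆ := by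
    simp only [commutatorElement_def]; group
  rw [h, S.cen c hc _ h2, mul_inv_cancel_right]
  exact (S.cen _ (S.e_le (S.a0_le h2)) _ h1)

namespace Setup

variable (S : Setup G)

/-- Elements acting trivially on `E/A₀`. -/
def K : Subgroup G where
  carrier := {c | c ∈ S.C ∧ ∀ y ∈ S.E, ⁅c, y⁆ ∈ S.A0}
  one_mem' := ⟨S.C.one_mem, fun y _ => by rw [commutatorElement_one_left]; exact S.A0.one_mem⟩
  mul_mem' := fun {a b} ha hb => ⟨S.C.mul_mem ha.1 hb.1, fun y hy => by
    rw [S.comm_mul_left ha.1 (ha.2 y hy) (hb.2 y hy)]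
    exact S.A0.mul_mem (ha.2 y hy) (hb.2 y hy)⟩
  inv_mem' := fun {a} ha => ⟨S.C.inv_mem ha.1, fun y hy => by
    have h : ⁅a⁻¹, y⁆ = a⁻¹ * ⁅a, y⁆⁻¹ * a⁻¹⁻¹ := by simp only [commutatorElement_def]; group
    rw [h]
    exact S.a0_norm _ (S.A.inv_mem (S.c_le ha.1)) _ (S.A0.inv_mem (ha.2 y hy))⟩

lemma e_le_K : S.E ≤ S.K := fun x hx => ⟨S.e_le hx, fun y hy => S.comm x hx y hy⟩

instance : (S.A0.subgroupOf S.E).Normal :=
  ⟨fun a ha g => by
    rw [Subgroup.mem_subgroupOf] at ha ⊢
    exact S.a0_norm _ (S.c_le (S.e_le g.2)) _ ha⟩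

/-- The quotient `E/A₀`. -/
abbrev U : Type u := S.E ⧸ S.A0.subgroupOf S.E

instance commU : CommGroup S.U :=
  { (inferInstance : Group (S.E ⧸ S.A0.subgroupOf S.E)) with
    mul_comm := fun a b => by
      induction a using QuotientGroup.induction_on with
      | H x =>
        induction b using QuotientGroup.induction_on with
        | H y =>
          rw [← QuotientGroup.mk_mul, ← QuotientGroup.mk_mul, QuotientGroup.eq,
            Subgroup.mem_subgroupOf]
          have h : ((x * y : S.E)⁻¹ * (y * x) : G) = ⁅(y : G)⁻¹, (x : G)⁻¹⁆ := by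
            simp only [commutatorElement_def, Subgroup.coe_mul, Subgroup.coe_inv]; group
          rw [Subgroup.coe_mul, Subgroup.coe_inv, Subgroup.coe_mul, Subgroup.coe_mul] at *
          rw [h]
          exact S.comm _ (S.E.inv_mem y.2) _ (S.E.inv_mem x.2) }

instance commA0 : CommGroup S.A0 :=
  { (inferInstance : Group S.A0) with
    mul_comm := fun a b => Subtype.ext (S.cen a (S.e_le (S.a0_le a.2)) b b.2) }

/-- Commutation with an element of `K`, as a character of `E/A₀`. -/
def chi : S.K →* (S.U →* S.A0) where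
  toFun c := QuotientGroup.lift (S.A0.subgroupOf S.E)
    { toFun := fun y => (⟨⁅(c : G), (y : G)⁆, c.2.2 y y.2⟩ : S.A0)
      map_one' := Subtype.ext (by simp)
      map_mul' := fun y y' => Subtype.ext (S.comm_mul_right (S.e_le y.2) (c.2.2 y' y'.2)) }
    (fun y hy => by
      rw [Subgroup.mem_subgroupOf] at hy
      rw [MonoidHom.mem_ker]
      refine Subtype.ext ?_
      show ⁅(c : G), (y : G)⁆ = 1
      rw [commutatorElement_eq_one_iff_mul_comm]
      exact S.cen c c.2.1 y hy)
  map_one' := by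
    ext y
    simp
  map_mul' c c' := by
    ext y
    exact S.comm_mul_left c.2.1 (c.2.2 y y.2) (c'.2.2 y y.2)

lemma chi_apply (c : S.K) (y : S.E) :
    ((S.chi c (QuotientGroup.mk y) : S.A0) : G) = ⁅(c : G), (y : G)⁆ := rfl

lemma ker_chi : S.chi.ker = S.A0.subgroupOf S.K := by
  ext c
  rw [MonoidHom.mem_ker, Subgroup.mem_subgroupOf]
  constructor
  · intro h
    refine S.dle c c.2.1 fun y hy => commutatorElement_eq_one_iff_mul_comm.mp ?_
    rw [← S.chi_apply c ⟨y, hy⟩, h]
    rfl
  · intro h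
    ext y
    show ((S.chi c (QuotientGroup.mk y) : S.A0) : G) = 1
    rw [S.chi_apply, commutatorElement_eq_one_iff_mul_comm]
    exact (S.cen y (S.e_le y.2) c h).symm

variable [Finite G]

lemma card_E : Nat.card S.E = Nat.card S.U * Nat.card S.A0 := by
  rw [← Nat.card_congr (Subgroup.subgroupOfEquivOfLe S.a0_le).toEquiv]
  exact Subgroup.card_eq_card_quotient_mul_card_subgroup _

lemma K_eq : S.K = S.E := by
  haveI := S.cyc
  refine (Subgroup.eq_of_le_of_card_ge S.e_le_K ?_).symm
  have : Finite (S.U →* S.A0) := Finite.of_injective _ DFunLike.coe_injective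
  rw [S.card_E, ← Subgroup.card_mul_index S.chi.ker, Subgroup.index_ker, S.ker_chi,
    Nat.card_congr (Subgroup.subgroupOfEquivOfLe (S.a0_le.trans S.e_le_K)).toEquiv, mul_comm]
  exact Nat.mul_le_mul_right _
    ((Nat.card_le_card_of_injective _ Subtype.val_injective).trans (card_hom_le S.U S.A0))

/-- The alternating pairing on `E/A₀`. -/
def beta : S.U →* S.U →* S.A0 :=
  QuotientGroup.lift (S.A0.subgroupOf S.E) (S.chi.comp (Subgroup.inclusion S.e_le_K)) (fun x hx => by
    rw [Subgroup.mem_subgroupOf] at hx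
    rw [MonoidHom.mem_ker, MonoidHom.comp_apply, ← MonoidHom.mem_ker, S.ker_chi, Subgroup.mem_subgroupOf]
    exact hx)

lemma beta_apply (x y : S.E) :
    ((S.beta (QuotientGroup.mk x) (QuotientGroup.mk y) : S.A0) : G) = ⁅(x : G), (y : G)⁆ := rfl

lemma beta_alt (x : S.U) : S.beta x x = 1 := by
  induction x using QuotientGroup.induction_on with
  | H x => exact Subtype.ext (by rw [S.beta_apply]; simp)

lemma beta_nd (x : S.U) (h : ∀ y, S.beta x y = 1) : x = 1 := by
  induction x using QuotientGroup.induction_on with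
  | H x =>
    rw [QuotientGroup.eq_one_iff, Subgroup.mem_subgroupOf]
    refine S.dle x (S.e_le x.2) fun y hy => commutatorElement_eq_one_iff_mul_comm.mp ?_
    rw [← S.beta_apply x ⟨y, hy⟩, h]
    rfl

lemma isSquare_card : IsSquare (Nat.card S.U) := by
  haveI := S.cyc
  exact isSquare_card_of_alt _ S.U S.beta rfl S.beta_alt S.beta_nd

/-- A prime dividing `|E/A₀|` divides `|A₀|`. -/
lemma prime_dvd {r : ℕ} (hr : r.Prime) (hrd : r ∣ Nat.card S.U) : r ∣ Nat.card S.A0 := by
  haveI := Fact.mk hr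
  obtain ⟨x, hx⟩ := exists_prime_orderOf_dvd_card' r hrd
  obtain ⟨y, hy⟩ : ∃ y, S.beta x y ≠ 1 := by
    by_contra h
    push Not at h
    rw [S.beta_nd x h, orderOf_one] at hx
    exact hr.ne_one hx.symm
  have h1 : (S.beta x y) ^ r = 1 := by
    rw [← MonoidHom.pow_apply, ← map_pow, ← hx, pow_orderOf_eq_one, map_one, MonoidHom.one_apply]
  rw [← orderOf_eq_prime h1 hy]
  exact orderOf_dvd_natCard _

/-- Conjugation by `A` on `E/A₀`. -/
def act : S.A →* Aut (Additive S.U) :=
  MonoidHom.toHomUnits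
    { toFun := fun g =>
        MonoidHom.toAdditive (QuotientGroup.map (S.A0.subgroupOf S.E) (S.A0.subgroupOf S.E)
          { toFun := fun x => (⟨(g : G) * x * (g : G)⁻¹, S.e_norm g g.2 x x.2⟩ : S.E)
            map_one' := Subtype.ext (by simp)
            map_mul' := fun x y => Subtype.ext (by simp [mul_assoc]) }
          (fun x hx => by
            rw [Subgroup.mem_comap, Subgroup.mem_subgroupOf] at *
            exact S.a0_norm g g.2 _ hx))
      map_one' := by
        refine DFunLike.ext _ _ fun v => ?_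
        obtain ⟨w, rfl⟩ := Additive.ofMul.surjective v
        induction w using QuotientGroup.induction_on with
        | H x =>
          refine Additive.toMul.injective ?_
          show (QuotientGroup.mk _ : S.U) = QuotientGroup.mk x
          exact congrArg QuotientGroup.mk (Subtype.ext (by simp))
      map_mul' := fun g g' => by
        refine DFunLike.ext _ _ fun v => ?_
        obtain ⟨w, rfl⟩ := Additive.ofMul.surjective v
        induction w using QuotientGroup.induction_on with
        | H x =>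
          refine Additive.toMul.injective ?_
          show (QuotientGroup.mk _ : S.U) = QuotientGroup.mk _
          exact congrArg QuotientGroup.mk (Subtype.ext (by simp [mul_assoc])) }

lemma act_mk (g : S.A) (x : S.E) :
    S.act g • Additive.ofMul (QuotientGroup.mk x : S.U) =
      Additive.ofMul (QuotientGroup.mk (⟨(g : G) * x * (g : G)⁻¹, S.e_norm g g.2 x x.2⟩ : S.E)) := rfl

lemma act_beta {c : S.A} (hc : (c : G) ∈ S.C) (x y : Additive S.U) :
    S.beta (Additive.toMul (S.act c • x)) (Additive.toMul (S.act c • y)) =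
      S.beta (Additive.toMul x) (Additive.toMul y) := by
  obtain ⟨x, rfl⟩ := Additive.ofMul.surjective x
  obtain ⟨y, rfl⟩ := Additive.ofMul.surjective y
  induction x using QuotientGroup.induction_on with
  | H x =>
    induction y using QuotientGroup.induction_on with
    | H y =>
      refine Subtype.ext ?_
      simp only [act_mk, toMul_ofMul, beta_apply]
      rw [← conjugate_commutatorElement, S.cen c hc _ (S.comm x x.2 y y.2), mul_inv_cancel_right]

lemma ker_act_C : (S.act.comp (Subgroup.inclusion S.c_le)).ker = S.E.subgroupOf S.C := by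
  ext c
  rw [MonoidHom.mem_ker, Subgroup.mem_subgroupOf]
  constructor
  · intro h
    rw [← S.K_eq]
    refine ⟨c.2, fun y hy => ?_⟩
    have h1 := S.act_mk (Subgroup.inclusion S.c_le c) ⟨y, hy⟩
    rw [MonoidHom.comp_apply] at h
    rw [h, one_smul] at h1
    have h2 := QuotientGroup.eq.mp (Additive.ofMul.injective h1).symm
    rw [Subgroup.mem_subgroupOf] at h2
    simp only [Subgroup.coe_mul, Subgroup.coe_inv, Subgroup.coe_inclusion] at h2
    have h3 := S.a0_norm _ (S.c_le (S.e_le hy)) _ (S.A0.inv_mem h2)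
    rw [show ⁅(c : G), y⁆ = y * (((c : G) * y * (c : G)⁻¹)⁻¹ * y)⁻¹ * y⁻¹ by
      simp only [commutatorElement_def]; group]
    exact h3
  · intro h
    refine aut_ext fun v => ?_
    rw [one_smul]
    obtain ⟨x, rfl⟩ := Additive.ofMul.surjective v
    induction x using QuotientGroup.induction_on with
    | H x =>
      rw [MonoidHom.comp_apply, act_mk]
      refine congrArg Additive.ofMul (QuotientGroup.eq.mpr ?_)
      rw [Subgroup.mem_subgroupOf]
      simp only [Subgroup.coe_mul, Subgroup.coe_inv, Subgroup.coe_inclusion]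
      rw [show ((c : G) * x * (c : G)⁻¹)⁻¹ * x = ⁅(c : G), (x : G)⁻¹⁆ by
        simp only [commutatorElement_def]; group]
      exact S.comm _ h _ (S.E.inv_mem x.2)

lemma card_C :
    Nat.card S.C = Nat.card S.E * Nat.card (S.act.comp (Subgroup.inclusion S.c_le)).range := by
  rw [← Subgroup.card_mul_index (S.act.comp (Subgroup.inclusion S.c_le)).ker, Subgroup.index_ker,
    S.ker_act_C, Nat.card_congr (Subgroup.subgroupOfEquivOfLe S.e_le).toEquiv]

/-- The subgroup of `E/A₀` underlying an additive subgroup. -/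
abbrev toSub (X : AddSubgroup (Additive S.U)) : Subgroup S.U := AddSubgroup.toSubgroup' X

lemma inter_perp {X : AddSubgroup (Additive S.U)} (hX : Inv S.act.range X) :
    S.toSub X ⊓ perp S.beta (S.toSub X) = ⊥ := by
  rw [eq_bot_iff]
  intro z hz
  -- the preimage is abelian and normal
  let B : Subgroup G :=
    ((S.toSub X ⊓ perp S.beta (S.toSub X)).comap (QuotientGroup.mk' (S.A0.subgroupOf S.E))).map S.E.subtype
  have hB1 : S.A0 ≤ B := fun a ha => ⟨⟨a, S.a0_le ha⟩, by
    show (QuotientGroup.mk (⟨a, S.a0_le ha⟩ : S.E) : S.U) ∈ (S.toSub X ⊓ perp S.beta (S.toSub X) : Subgroup S.U)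
    rw [(QuotientGroup.eq_one_iff _).mpr (Subgroup.mem_subgroupOf.mpr ha)]
    exact Subgroup.one_mem _, rfl⟩
  have hB2 : B ≤ S.E := Subgroup.map_subtype_le _
  have hBc : ∀ a ∈ B, ∀ b ∈ B, a * b = b * a := by
    rintro _ ⟨a, ha, rfl⟩ _ ⟨b, hb, rfl⟩
    refine commutatorElement_eq_one_iff_mul_comm.mp ?_
    simp only [Subgroup.coe_subtype]
    have h : S.beta (QuotientGroup.mk a) (QuotientGroup.mk b) = 1 := ha.2 _ hb.1
    rw [← S.beta_apply a b, h]
    rfl
  have hBn : ∀ g ∈ S.A, ∀ b ∈ B, g * b * g⁻¹ ∈ B := by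
    rintro g hg _ ⟨b, ⟨hb1, hb2⟩, rfl⟩
    have hmem : Additive.ofMul (QuotientGroup.mk
        (⟨g * b * g⁻¹, S.e_norm g hg b b.2⟩ : S.E) : S.U) ∈ X := by
      have := hX (S.act ⟨g, hg⟩) ⟨_, rfl⟩ (Additive.ofMul (QuotientGroup.mk b : S.U)) hb1
      rw [act_mk] at this
      exact this
    refine ⟨⟨g * b * g⁻¹, S.e_norm g hg b b.2⟩, ⟨hmem, fun x hx => ?_⟩, rfl⟩
    induction x using QuotientGroup.induction_on with
    | H x =>
      have hx' : Additive.ofMul (QuotientGroup.mk
          (⟨g⁻¹ * x * g⁻¹⁻¹, S.e_norm _ (S.A.inv_mem hg) x x.2⟩ : S.E) : S.U) ∈ X := by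
        have := hX (S.act ⟨g⁻¹, S.A.inv_mem hg⟩) ⟨_, rfl⟩ (Additive.ofMul (QuotientGroup.mk x : S.U)) hx
        rw [act_mk] at this
        exact this
      have h1 := congrArg (fun a : S.A0 => g * (a : G) * g⁻¹) (hb2 _ hx')
      simp only [OneMemClass.coe_one, mul_one, mul_inv_cancel] at h1
      refine Subtype.ext ?_
      rw [OneMemClass.coe_one]
      show ⁅g * (b : G) * g⁻¹, (x : G)⁆ = 1
      rw [← h1]
      show _ = g * ⁅(b : G), g⁻¹ * (x : G) * g⁻¹⁻¹⁆ * g⁻¹
      simp only [commutatorElement_def]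
      group
  induction z using QuotientGroup.induction_on with
  | H z =>
    rw [Subgroup.mem_bot, QuotientGroup.eq_one_iff, Subgroup.mem_subgroupOf]
    exact S.maxab B hB1 hB2 hBn hBc ⟨z, hz, rfl⟩

lemma isSquare_inv {X : AddSubgroup (Additive S.U)} (hX : Inv S.act.range X) :
    IsSquare (Nat.card X) := by
  haveI := S.cyc
  let Y := S.toSub X
  let β' : Y →* Y →* S.A0 := (MonoidHom.compHom' Y.subtype).comp (S.beta.comp Y.subtype)
  have h := isSquare_card_of_alt _ Y β' rfl (fun x => S.beta_alt x) fun x hx => by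
    have hmem : (x : S.U) ∈ Y ⊓ perp S.beta Y := ⟨x.2, fun y hy => hx ⟨y, hy⟩⟩
    rw [S.inter_perp hX, Subgroup.mem_bot] at hmem
    exact Subtype.ext hmem
  exact h

lemma cr_act : CR S.act.range := by
  intro X hX
  haveI := S.cyc
  refine ⟨Subgroup.toAddSubgroup (perp S.beta (S.toSub X)), ?_, ?_, ?_⟩
  · rintro _ ⟨g, rfl⟩ v hv x hx
    induction x using QuotientGroup.induction_on with
    | H x =>
      obtain ⟨w, rfl⟩ := Additive.ofMul.surjective v
      induction w using QuotientGroup.induction_on with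
      | H b =>
        have hx' : Additive.ofMul (QuotientGroup.mk
            (⟨(g : G)⁻¹ * x * (g : G)⁻¹⁻¹, S.e_norm _ (S.A.inv_mem g.2) x x.2⟩ : S.E) : S.U) ∈ X := by
          have := hX (S.act g⁻¹) ⟨_, rfl⟩ (Additive.ofMul (QuotientGroup.mk x : S.U)) hx
          rw [act_mk] at this
          exact this
        have h1 := congrArg (fun a : S.A0 => (g : G) * (a : G) * (g : G)⁻¹) (hv _ hx')
        simp only [OneMemClass.coe_one, mul_one, mul_inv_cancel] at h1
        refine Subtype.ext ?_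
        rw [OneMemClass.coe_one]
        show ⁅(g : G) * (b : G) * (g : G)⁻¹, (x : G)⁆ = 1
        rw [← h1]
        show _ = (g : G) * ⁅(b : G), (g : G)⁻¹ * (x : G) * (g : G)⁻¹⁻¹⁆ * (g : G)⁻¹
        simp only [commutatorElement_def]
        group
  · rw [eq_bot_iff]
    intro v hv
    have : Additive.toMul v ∈ S.toSub X ⊓ perp S.beta (S.toSub X) := hv
    rw [S.inter_perp hX, Subgroup.mem_bot] at this
    rw [AddSubgroup.mem_bot]
    exact Additive.toMul.injective this
  · set Y := S.toSub X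
    set P := perp S.beta Y
    have hinj : Function.Injective fun p : Y × P => (p.1 : S.U) * p.2 := by
      rintro ⟨a, b⟩ ⟨a', b'⟩ h
      simp only at h
      have hmem : (a' : S.U)⁻¹ * a ∈ Y ⊓ P := by
        refine ⟨Y.mul_mem (Y.inv_mem a'.2) a.2, ?_⟩
        have : (a' : S.U)⁻¹ * a = (b' : S.U) * (b : S.U)⁻¹ := by
          rw [eq_mul_inv_iff_mul_eq, mul_assoc, h, inv_mul_cancel_left]
        rw [this]
        exact P.mul_mem b'.2 (P.inv_mem b.2)
      rw [S.inter_perp hX, Subgroup.mem_bot, inv_mul_eq_one] at hmem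
      obtain rfl : a = a' := Subtype.ext hmem.symm
      exact Prod.ext rfl (Subtype.ext (mul_left_cancel h))
    have hb : Function.Bijective fun p : Y × P => (p.1 : S.U) * p.2 :=
      hinj.bijective_of_nat_card_le (by rw [Nat.card_prod]; exact card_le_mul_perp S.beta Y)
    rw [eq_top_iff]
    intro v _
    obtain ⟨⟨a, b⟩, hab⟩ := hb.2 (Additive.toMul v)
    have hv : v = Additive.ofMul (a : S.U) + Additive.ofMul (b : S.U) := by
      rw [← ofMul_mul]
      exact (congrArg Additive.ofMul hab).symm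
    rw [hv]
    exact AddSubgroup.mem_sup.mpr ⟨_, a.2, _, b.2, rfl⟩

/-- A pair for the whole group bounds the order of the image of `C`. -/
lemma six_mul_le (hodd : Odd (Nat.card S.A)) (hU : 3 ≤ Nat.card S.U) (hp : HasPair S.act.range) :
    6 * Nat.card (S.act.comp (Subgroup.inclusion S.c_le)).range ≤ Nat.card S.U ^ 2 := by
  classical
  haveI := S.cyc
  set H := (S.act.comp (Subgroup.inclusion S.c_le)).range
  have hHodd : Odd (Nat.card H) :=
    odd_range _ (hodd.of_dvd_nat (Subgroup.card_dvd_of_le S.c_le))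
  have hUodd : Odd (Nat.card S.U) :=
    hodd.of_dvd_nat (((Dvd.intro _ S.card_E.symm).trans (Subgroup.card_dvd_of_le S.e_le)).trans
      (Subgroup.card_dvd_of_le S.c_le))
  obtain ⟨v0, w0, h0⟩ := hp
  have h0' : ∀ r ∈ H, r • v0 = v0 → r • w0 = w0 → r = 1 := fun r hr h h' =>
    h0 r (by obtain ⟨c, rfl⟩ := hr; exact ⟨_, rfl⟩) h h'
  by_cases htriv : ∀ r ∈ H, r = 1
  · have h1 : Nat.card H = 1 := Subgroup.card_eq_one.mpr ((Subgroup.eq_bot_iff_forall _).mpr htriv)
    rw [h1]
    nlinarith
  obtain ⟨v, w, hv, hvw⟩ : ∃ v w : Additive S.U, v ≠ 0 ∧ ∀ r ∈ H, r • v = v → r • w = w → r = 1 := by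
    by_cases hv : v0 = 0
    · refine ⟨w0, v0, fun hw => htriv fun r hr => ?_, fun r hr h h' => h0' r hr h' h⟩
      exact h0' r hr (by rw [hv, smul_zero]) (by rw [hw, smul_zero])
    · exact ⟨v0, w0, hv, h0'⟩
  let f : Additive S.U → Additive S.U → S.A0 := fun x y => S.beta (Additive.toMul x) (Additive.toMul y)
  set c0 := f v w
  have hinv : ∀ r ∈ H, f (r • v) (r • w) = c0 := by
    rintro _ ⟨c, rfl⟩
    exact S.act_beta (c := Subgroup.inclusion S.c_le c) c.2 v w
  have hodd2 : ∀ x : Additive S.U, -x = x → x = 0 := fun x hx => by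
    have h1 : (Additive.toMul x)⁻¹ = Additive.toMul x := congrArg Additive.toMul hx
    exact Additive.toMul.injective (eq_one_of_inv_eq hUodd h1)
  let T := {p : Additive S.U × Additive S.U // p.1 ≠ 0 ∧ f p.1 p.2 = c0}
  have hT1 : 2 * Nat.card H ≤ Nat.card T := by
    rw [show 2 = Nat.card Bool by simp, ← Nat.card_prod]
    refine Nat.card_le_card_of_injective (fun p : Bool × H =>
      (⟨if p.1 then ((p.2 : Aut (Additive S.U)) • v, (p.2 : Aut (Additive S.U)) • w)
        else (-((p.2 : Aut (Additive S.U)) • v), -((p.2 : Aut (Additive S.U)) • w)), ?_⟩ : T)) ?_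
    · have hne : (p.2 : Aut (Additive S.U)) • v ≠ 0 := fun e =>
        hv (MulAction.injective (p.2 : Aut (Additive S.U)) (by simp only [e, smul_zero]))
      rcases p with ⟨b, r, hr⟩
      cases b
      · refine ⟨neg_ne_zero.mpr hne, ?_⟩
        simp only [Bool.false_eq_true, if_false]
        rw [← hinv r hr]
        simp [f]
      · exact ⟨hne, hinv r hr⟩
    · rintro ⟨b, r, hr⟩ ⟨b', r', hr'⟩ h
      have hsame : ∀ r r' : Aut (Additive S.U), r ∈ H → r' ∈ H → r • v = r' • v → r • w = r' • w →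
          r = r' := fun r r' h1 h2 e e' => by
        have := hvw (r'⁻¹ * r) (H.mul_mem (H.inv_mem h2) h1)
          (by rw [mul_smul, e, inv_smul_smul]) (by rw [mul_smul, e', inv_smul_smul])
        exact (inv_mul_eq_one.mp this).symm
      have hdiff : ∀ r r' : Aut (Additive S.U), r ∈ H → r' ∈ H → r • v = -(r' • v) →
          r • w = -(r' • w) → False := fun r r' h1 h2 e e' => by
        set s : H := ⟨r'⁻¹ * r, H.mul_mem (H.inv_mem h2) h1⟩
        have hs : s • s • v = v := by
          show (r'⁻¹ * r) • (r'⁻¹ * r) • v = v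
          rw [mul_smul r'⁻¹ r v, e, smul_neg, inv_smul_smul, smul_neg, mul_smul, e, smul_neg,
            inv_smul_smul, neg_neg]
        have h3 : (r'⁻¹ * r) • v = v := smul_eq_of_sq (G := H) hHodd (g := s) hs
        rw [mul_smul, e, smul_neg, inv_smul_smul] at h3
        exact hv (hodd2 v h3)
      have h1 := congrArg (fun z : T => z.1.1) h
      have h2 := congrArg (fun z : T => z.1.2) h
      cases b <;> cases b' <;> simp only [Bool.false_eq_true, if_false, if_true] at h1 h2
      · simp [hsame r r' hr hr' (neg_injective h1) (neg_injective h2)]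
      · exact (hdiff r' r hr' hr h1.symm h2.symm).elim
      · exact (hdiff r r' hr hr' h1 h2).elim
      · simp [hsame r r' hr hr' h1 h2]
  have : Fintype (Additive S.U) := Fintype.ofFinite _
  have hfib : ∀ x : Additive S.U, 3 * Nat.card {y : Additive S.U // x ≠ 0 ∧ f x y = c0} ≤ Nat.card S.U := by
    intro x
    by_cases hx : x = 0
    · simp [hx]
    set k := S.beta (Additive.toMul x)
    rcases isEmpty_or_nonempty {y : Additive S.U // x ≠ 0 ∧ f x y = c0} with he | ⟨⟨y0, _, hy0⟩⟩
    · simp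
    have hle : Nat.card {y : Additive S.U // x ≠ 0 ∧ f x y = c0} ≤ Nat.card k.ker := by
      refine Nat.card_le_card_of_injective
        (fun y => (⟨Additive.toMul y.1 * (Additive.toMul y0)⁻¹, ?_⟩ : k.ker)) fun a b h => ?_
      · rw [MonoidHom.mem_ker, map_mul, map_inv]
        show f x y.1 * (f x y0)⁻¹ = 1
        rw [y.2.2, hy0, mul_inv_cancel]
      · exact Subtype.ext (Additive.toMul.injective (mul_right_cancel (congrArg Subtype.val h)))
    obtain ⟨j, hj⟩ := hUodd.of_dvd_nat (Subgroup.index_dvd_card k.ker)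
    have hne : k.ker.index ≠ 1 := fun h => by
      rw [Subgroup.index_eq_one] at h
      exact hx (Additive.toMul.injective (S.beta_nd _ fun y => by
        have : y ∈ k.ker := by rw [h]; trivial
        exact this))
    calc 3 * Nat.card {y : Additive S.U // x ≠ 0 ∧ f x y = c0} ≤ k.ker.index * Nat.card k.ker :=
          Nat.mul_le_mul (by omega) hle
      _ = _ := Subgroup.index_mul_card _
  have hT2 : 3 * Nat.card T ≤ Nat.card S.U ^ 2 := by
    let e : T ≃ Σ x : Additive S.U, {y : Additive S.U // x ≠ 0 ∧ f x y = c0} :=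
      { toFun := fun p => ⟨p.1.1, p.1.2, p.2⟩
        invFun := fun p => ⟨(p.1, p.2.1), p.2.2⟩
        left_inv := fun _ => rfl
        right_inv := fun _ => rfl }
    rw [Nat.card_congr e, Nat.card_sigma, Finset.mul_sum]
    refine (Finset.sum_le_sum fun x _ => hfib x).trans ?_
    rw [Finset.sum_const, smul_eq_mul, Finset.card_univ, ← Nat.card_eq_fintype_card, sq]
    exact le_refl _
  calc 6 * Nat.card H = 3 * (2 * Nat.card H) := by ring
    _ ≤ 3 * Nat.card T := Nat.mul_le_mul_left _ hT1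
    _ ≤ _ := hT2

end Setup

end CfsgLib.OddBase
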