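import Cfsg.Agent.OddBase.BlockPair
import Cfsg.Agent.OddBase.Prim

/-!
Irreducible soluble groups of odd order on very small modules.
-/

set_option autoImplicit false
set_option linter.style.haveILetI false
set_option linter.unusedSectionVars false

universe u

namespace CfsgLib.OddBase

open scoped commutatorElement

variable {V : Type u} [AddCommGroup V] {A : Subgroup (Aut V)}

lemma card_range_eq_one {G : Type*} [Group G] {W : Type u} [AddCommGroup W] [Subsingleton W]
    (φ : G →* Aut W) : Nat.card φ.range = 1 := by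
  refine Subgroup.card_eq_one.mpr ((Subgroup.eq_bot_iff_forall _).mpr fun r _ => aut_ext fun v => ?_)
  exact Subsingleton.elim _ _

/-- In the primitive case either `E = A₀` and `C = A₀`, or the index is an odd square. -/
lemma prim_cases [Finite V] (D : PrimData A) (hodd : Odd (Nat.card A)) :
    (Nat.card D.S.U = 1 ∧ Nat.card D.S.C = Nat.card D.S.A0) ∨
      ∃ e, 3 ≤ e ∧ Odd e ∧ Nat.card D.S.U = e * e ∧ e ≤ D.m ∧ 4 ≤ D.q ∧
        ∀ r : ℕ, r.Prime → r ∣ e → r ∣ D.q - 1 := by
  obtain ⟨e, he⟩ := D.S.isSquare_card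
  have hoddA : Odd (Nat.card D.S.A) := by rw [D.hA]; exact hodd
  have hUodd : Odd (Nat.card D.S.U) :=
    hoddA.of_dvd_nat (((Dvd.intro _ D.S.card_E.symm).trans (Subgroup.card_dvd_of_le D.S.e_le)).trans
      (Subgroup.card_dvd_of_le D.S.c_le))
  have heodd : Odd e := by rw [he] at hUodd; exact (Nat.odd_mul.mp hUodd).1
  by_cases h1 : e = 1
  · left
    subst h1
    have hU : Nat.card D.S.U = 1 := he
    refine ⟨hU, ?_⟩
    have : Subsingleton D.S.U := (Nat.card_eq_one_iff_unique.mp hU).1
    have : Subsingleton (Additive D.S.U) := ⟨fun a b => Additive.toMul.injective (Subsingleton.elim _ _)⟩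
    rw [D.S.card_C, D.S.card_E, hU, card_range_eq_one, one_mul, mul_one]
  · right
    obtain ⟨k, hk⟩ := heodd
    have hr : ∀ r : ℕ, r.Prime → r ∣ e → r ∣ D.q - 1 := fun r hr hre =>
      (D.S.prime_dvd hr (he ▸ dvd_mul_of_dvd_left hre e)).trans D.a0_dvd
    refine ⟨e, by omega, ⟨k, hk⟩, he, Nat.mul_self_le_mul_self_iff.mp (he ▸ D.u_le), ?_, hr⟩
    obtain ⟨r, hrp, hre⟩ := Nat.exists_prime_and_dvd h1
    have h3 : 3 ≤ r := by
      have := hrp.two_le
      rcases Nat.lt_or_ge r 3 with h | h
      · have : r = 2 := by omega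
        subst this
        omega
      · exact h
    have hq2 : 2 ≤ D.q := by
      rw [D.hq]
      exact le_trans D.hp.two_le (Nat.le_self_pow (by have := D.hf; omega) _)
    have := Nat.le_of_dvd (by omega) (hr r hrp hre)
    omega

lemma pow_eq_prime_pow {p r i j : ℕ} (hp : p.Prime) (hr : r.Prime) (hi : 0 < i)
    (h : p ^ i = r ^ j) : p = r ∧ i = j := by
  have hd : p ∣ r ^ j := h ▸ dvd_pow_self p hi.ne'
  have := (Nat.prime_dvd_prime_iff_eq hp hr).mp (hp.dvd_of_dvd_pow hd)
  subst this
  exact ⟨rfl, Nat.pow_right_injective hp.two_le h⟩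

lemma le_of_odd_dvd {a n b : ℕ} (ha : Odd a) (hd : a ∣ n) (hn : 0 < n)
    (h : ∀ x ∈ n.divisors, Odd x → x ≤ b) : a ≤ b :=
  h a (Nat.mem_divisors.mpr ⟨hd, hn.ne'⟩) ha

/-- The bounds. -/
theorem irr_small [Finite V] (hsol : Group.IsSolvable A) (hodd : Odd (Nat.card A)) (hirr : Irr A) :
    (Nat.card V = 9 → Nat.card A = 1) ∧ (Nat.card V = 25 → Nat.card A ≤ 3) ∧
      (Nat.card V = 27 → Nat.card A ≤ 39) ∧ (Nat.card V = 49 → Nat.card A ≤ 3) ∧
      (Nat.card V = 81 → Nat.card A ≤ 5) := by
  classical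
  by_cases hB : Nonempty (Blocks A)
  · obtain ⟨Bk⟩ := hB
    obtain ⟨k, hk⟩ := Bk.odd_O hodd
    have h2 := Bk.two
    have hW := Bk.two_le_space
    have key : ∀ n, n ≤ 81 → Nat.card V = n → n = 9 ∨ n = 25 ∨ n = 49 ∨ n = 81 → False := by
      intro n hn hV hcases
      rw [Bk.card_eq] at hV
      have hO : Bk.O.card < 7 := by
        by_contra h
        have : 2 ^ 7 ≤ Nat.card Bk.space ^ Bk.O.card :=
          (Nat.pow_le_pow_right (by norm_num) (by omega : 7 ≤ Bk.O.card)).trans
            (Nat.pow_le_pow_left hW _)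
        omega
      have hW5 : Nat.card Bk.space < 5 := by
        by_contra h
        have : 5 ^ 3 ≤ Nat.card Bk.space ^ Bk.O.card :=
          (Nat.pow_le_pow_right (by norm_num) (by omega : 3 ≤ Bk.O.card)).trans
            (Nat.pow_le_pow_left (by omega) _)
        omega
      interval_cases hw : Nat.card Bk.space <;> interval_cases ho : Bk.O.card <;>
        norm_num at hV <;> omega
    exact ⟨fun h => (key 9 (by omega) h (by omega)).elim, fun h => (key 25 (by omega) h (by omega)).elim,
      fun h => Bk.card_twentySeven hodd h, fun h => (key 49 (by omega) h (by omega)).elim,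
      fun h => (key 81 (by omega) h (by omega)).elim⟩
  have hfield : AllFields A := fun B hBn hBc =>
    (blocks_or_field hirr hBn hBc).resolve_left hB
  by_cases hbig : Nat.card V = 9 ∨ Nat.card V = 25 ∨ Nat.card V = 27 ∨ Nat.card V = 49 ∨ Nat.card V = 81
  swap
  · refine ⟨?_, ?_, ?_, ?_, ?_⟩ <;> intro h <;> exact absurd (by omega) hbig
  have : Nontrivial V := Finite.one_lt_card_iff_nontrivial.mp (by omega)
  obtain ⟨D⟩ := exists_primData hsol hfield
  rcases prim_cases D hodd with ⟨-, hC⟩ | ⟨e, he, -, -, hem, hq, -⟩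
  · have hA : Nat.card A = Nat.card D.S.A0 * D.d := by rw [D.card_A, hC]
    have ha : Odd (Nat.card D.S.A0) := hodd.of_dvd_nat (Dvd.intro _ hA.symm)
    have hd : Odd D.d := hodd.of_dvd_nat (Dvd.intro_left _ hA.symm)
    have hV := D.hV
    rw [D.hq, ← pow_mul] at hV
    have hfm : 0 < D.f * D.m := Nat.mul_pos D.hf D.hm
    have hfac : ∀ r j, r.Prime → Nat.card V = r ^ j → D.f ∣ j ∧ Nat.card D.S.A0 ∣ r ^ D.f - 1 := by
      intro r j hr hj
      obtain ⟨rfl, rfl⟩ := pow_eq_prime_pow D.hp hr hfm (hV.trans hj)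
      exact ⟨Dvd.intro _ rfl, by rw [← D.hq]; exact D.a0_dvd⟩
    refine ⟨fun h => ?_, fun h => ?_, fun h => ?_, fun h => ?_, fun h => ?_⟩
    · obtain ⟨hf, hadvd⟩ := hfac 3 2 Nat.prime_three (by rw [h]; norm_num)
      have hdf : D.d ≤ 1 := le_of_odd_dvd hd (D.hd.trans hf) (by norm_num) (by decide)
      have hf' := Nat.le_of_dvd (by norm_num) hf
      have hf1 := D.hf
      have hale : Nat.card D.S.A0 ≤ 1 := by
        interval_cases D.f <;> exact le_of_odd_dvd ha hadvd (by norm_num) (by decide)
      have h0 : 0 < Nat.card A := Nat.card_pos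
      have := Nat.mul_le_mul hale hdf
      omega
    · obtain ⟨hf, hadvd⟩ := hfac 5 2 Nat.prime_five (by rw [h]; norm_num)
      have hdf : D.d ≤ 1 := le_of_odd_dvd hd (D.hd.trans hf) (by norm_num) (by decide)
      have hf' := Nat.le_of_dvd (by norm_num) hf
      have hf1 := D.hf
      have hale : Nat.card D.S.A0 ≤ 3 := by
        interval_cases D.f <;> exact le_of_odd_dvd ha hadvd (by norm_num) (by decide)
      have := Nat.mul_le_mul hale hdf
      omega
    · obtain ⟨hf, hadvd⟩ := hfac 3 3 Nat.prime_three (by rw [h]; norm_num)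
      have hdf : D.d ≤ 3 := le_of_odd_dvd hd (D.hd.trans hf) (by norm_num) (by decide)
      have hf' := Nat.le_of_dvd (by norm_num) hf
      have hf1 := D.hf
      have hale : Nat.card D.S.A0 ≤ 13 := by
        interval_cases D.f <;> exact le_of_odd_dvd ha hadvd (by norm_num) (by decide)
      have := Nat.mul_le_mul hale hdf
      omega
    · obtain ⟨hf, hadvd⟩ := hfac 7 2 (by norm_num) (by rw [h]; norm_num)
      have hdf : D.d ≤ 1 := le_of_odd_dvd hd (D.hd.trans hf) (by norm_num) (by decide)
      have hf' := Nat.le_of_dvd (by norm_num) hf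
      have hf1 := D.hf
      have hale : Nat.card D.S.A0 ≤ 3 := by
        interval_cases D.f <;> exact le_of_odd_dvd ha hadvd (by norm_num) (by decide)
      have := Nat.mul_le_mul hale hdf
      omega
    · obtain ⟨hf, hadvd⟩ := hfac 3 4 Nat.prime_three (by rw [h]; norm_num)
      have hdf : D.d ≤ 1 := le_of_odd_dvd hd (D.hd.trans hf) (by norm_num) (by decide)
      have hf' := Nat.le_of_dvd (by norm_num) hf
      have hf1 := D.hf
      have hale : Nat.card D.S.A0 ≤ 5 := by
        interval_cases D.f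
        · exact le_of_odd_dvd ha hadvd (by norm_num) (by decide)
        · exact le_of_odd_dvd ha hadvd (by norm_num) (by decide)
        · exact absurd hf (by norm_num)
        · exact le_of_odd_dvd ha hadvd (by norm_num) (by decide)
      have := Nat.mul_le_mul hale hdf
      omega
  · -- a proper extraspecial section needs at least `4^3` vectors
    exfalso
    have hV := D.hV
    have hm3 : 3 ≤ D.m := by omega
    have hq5 : D.q < 5 := by
      by_contra h
      have : 5 ^ 3 ≤ D.q ^ D.m :=
        (Nat.pow_le_pow_right (by norm_num) hm3).trans (Nat.pow_le_pow_left (by omega) _)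
      norm_num at this
      omega
    have hq4 : D.q = 4 := by omega
    have hm4 : D.m < 4 := by
      by_contra h
      have : 4 ^ 4 ≤ D.q ^ D.m := by rw [hq4]; exact Nat.pow_le_pow_right (by norm_num) (by omega)
      omega
    have hm : D.m = 3 := by omega
    rw [hq4, hm] at hV
    norm_num at hV
    omega

/-- The bound used for permutation groups. -/
theorem smallBound : SmallBound.{u} := fun _ _ _ _ hsol hodd hirr =>
  ⟨(irr_small hsol hodd hirr).1, (irr_small hsol hodd hirr).2.1, (irr_small hsol hodd hirr).2.2.1⟩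

end CfsgLib.OddBase
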